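import Cfsg.Agent.H503.El.Base
import Cfsg.Agent.H809.SelfCentLin
import Cfsg.Agent.S0243
import Cfsg.Agent.S0249

/-!
# TEAM ELUSIVE: `L₃(4)`, `L₇(2)` (helper503)
-/

set_option autoImplicit false

namespace Cfsg.Agent.H503.El

open Subgroup Cfsg.Agent.H970.StabNum Cfsg.Agent.H278.El Cfsg.Agent.H396 Cfsg.Agent

theorem card_psl {F : Type} [Field F] [Fintype F] {q : ℕ} (hF : Fintype.card F = q) {d N : ℕ} (hd : 2 ≤ d)
    (h : ∏ i : Fin d, (q ^ d - q ^ (i : ℕ)) = Nat.gcd d (q - 1) * ((q - 1) * N)) (hq : q - 1 ≠ 0) :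
    Nat.card (Matrix.ProjectiveSpecialLinearGroup (Fin d) F) = N := by
  have h2 := S0243.result (F := F) hF d hd
  rw [h] at h2
  have h3 := Nat.eq_of_mul_eq_mul_left (Nat.gcd_pos_of_pos_left _ (by omega)) h2
  exact Nat.eq_of_mul_eq_mul_left (Nat.pos_of_ne_zero hq) h3

theorem card_psl34 {F : Type} [Field F] [Fintype F] (hF : Fintype.card F = 4) :
    Nat.card (Matrix.ProjectiveSpecialLinearGroup (Fin 3) F) = 20160 :=
  card_psl hF (by norm_num) (by simp [Fin.prod_univ_succ]) (by norm_num)

theorem card_psl72 {F : Type} [Field F] [Fintype F] (hF : Fintype.card F = 2) :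
    Nat.card (Matrix.ProjectiveSpecialLinearGroup (Fin 7) F) = 163849992929280 :=
  card_psl hF (by norm_num) (by simp [Fin.prod_univ_succ]) (by norm_num)

set_option maxRecDepth 100000 in
/-- **`L₃(4)`: every proper subgroup misses a class of elements of prime order.** -/
theorem derAll_psl34 (OT : OrdDiv.OrderTable.{0})
    (hS : ∀ (X : Type) [Group X] [Finite X] [IsSimpleGroup X], Cfsg.IsKnownSimple' X)
    (F : Type) [Field F] [Fintype F] (hF : Fintype.card F = 4)
    (R : Subgroup (Matrix.ProjectiveSpecialLinearGroup (Fin 3) F)) (hR : R ≠ ⊤) : Der _ R := by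
  haveI : IsSimpleGroup (Matrix.ProjectiveSpecialLinearGroup (Fin 3) F) := S0249.result 3 le_rfl
  exact der_of_ex OT hS (p := 5) (M := 2) (l := [(2, 6), (3, 2), (5, 1), (7, 1)]) (ps := [2, 3, 5, 7])
    (tbl := [60, 168, 360, 504, 2520, 20160]) (card_psl34 hF) (by norm_num) (by norm_num) (by norm_num)
    (by decide +kernel) (by decide +kernel) (by decide +kernel) (by decide +kernel)
    (H809.SelfCent.psl_selfcent 3 4 5 (by simp) F hF) R hR

set_option maxRecDepth 100000 in
/-- **`L₇(2)`: every proper subgroup misses a class of elements of prime order.** -/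
theorem derAll_psl72 (OT : OrdDiv.OrderTable.{0})
    (hS : ∀ (X : Type) [Group X] [Finite X] [IsSimpleGroup X], Cfsg.IsKnownSimple' X)
    (F : Type) [Field F] [Fintype F] (hF : Fintype.card F = 2)
    (R : Subgroup (Matrix.ProjectiveSpecialLinearGroup (Fin 7) F)) (hR : R ≠ ⊤) : Der _ R := by
  haveI : IsSimpleGroup (Matrix.ProjectiveSpecialLinearGroup (Fin 7) F) := S0249.result 7 (by norm_num)
  exact der_of_ex OT hS (p := 127) (M := 7) (l := [(2, 21), (3, 4), (5, 1), (7, 2), (31, 1), (127, 1)])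
    (ps := [2, 3, 5, 7, 31, 127])
    (tbl := [60, 168, 360, 504, 2520, 6048, 14880, 20160, 25920, 181440, 1024128, 1451520, 9999360, 20158709760,
      163849992929280]) (card_psl72 hF) (by norm_num) (by norm_num) (by norm_num)
    (by decide +kernel) (by decide +kernel) (by decide +kernel) (by decide +kernel)
    (H809.SelfCent.psl_irred hF (by norm_num) (by norm_num) (by norm_num) (by norm_num) (by norm_num) (by norm_num)
      (by norm_num)) R hR

theorem clMaxA_psl34 (OT : OrdDiv.OrderTable.{0})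
    (hS : ∀ (X : Type) [Group X] [Finite X] [IsSimpleGroup X], Cfsg.IsKnownSimple' X)
    (F : Type) [Field F] [Fintype F] (hF : Fintype.card F = 4) :
    ClMaxA (Matrix.ProjectiveSpecialLinearGroup (Fin 3) F) := fun M hM => derAll_psl34 OT hS F hF M hM.1

theorem clMaxA_psl72 (OT : OrdDiv.OrderTable.{0})
    (hS : ∀ (X : Type) [Group X] [Finite X] [IsSimpleGroup X], Cfsg.IsKnownSimple' X)
    (F : Type) [Field F] [Fintype F] (hF : Fintype.card F = 2) :
    ClMaxA (Matrix.ProjectiveSpecialLinearGroup (Fin 7) F) := fun M hM => derAll_psl72 OT hS F hF M hM.1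

end Cfsg.Agent.H503.El
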