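import Cfsg.Agent.H503.El.Tools
import Cfsg.Agent.H503.El.Lin

/-!
# TEAM ELUSIVE: `L₄(4)` (helper503)
-/

set_option autoImplicit false

namespace Cfsg.Agent.H503.El

open Subgroup Cfsg.Agent.H970.StabNum Cfsg.Agent.H278.El Cfsg.Agent.H396 Cfsg.Agent
open Cfsg.Agent.H809.SelfCent

/-- the centraliser of `diag(x, 1)`, `x` irreducible: divisibility -/
theorem card_cent_blk_dvd {F : Type} [Field F] [Fintype F] {d r q : ℕ} (hF : Fintype.card F = q) (hn : d.Prime)
    (hr : r.Prime) (h1 : r ∣ q ^ d - 1) (h2 : ¬ r ∣ q - 1) (h3 : ¬ r ∣ q)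
    (x : Matrix.SpecialLinearGroup (Fin d) F) (hx : orderOf x = r) :
    Nat.card (centralizer ({blk d F x} : Set (Matrix.SpecialLinearGroup (Fin (d + 1)) F))) ∣ q ^ d - 1 := by
  classical
  have hinj : Function.Injective (Matrix.SpecialLinearGroup.toGL : Matrix.SpecialLinearGroup (Fin d) F →* _) := by
    intro a b h
    apply Subtype.ext
    exact congrArg (Units.val) h
  have hx' : orderOf (Matrix.SpecialLinearGroup.toGL x : GL (Fin d) F) = r := by
    rw [orderOf_injective _ hinj, hx]
  rw [← card_cent_GL hF hn hr h1 h2 h3 (Matrix.SpecialLinearGroup.toGL x) hx']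
  have hirr := (irr hF hn hr h1 h2 h3 _ hx').1
  have hx1 : x ≠ 1 := by
    rintro rfl
    rw [orderOf_one] at hx
    exact hr.one_lt.ne hx
  have key : ∀ y : centralizer ({blk d F x} : Set (Matrix.SpecialLinearGroup (Fin (d + 1)) F)),
      ∃ (A : GL (Fin d) F) (e : F), A ∈ centralizer ({Matrix.SpecialLinearGroup.toGL x} : Set (GL (Fin d) F)) ∧
      (y : Matrix (Fin (d + 1)) (Fin (d + 1)) F) =
        Matrix.reindexAlgEquiv F F finSumFinEquiv (Matrix.fromBlocks (A : Matrix (Fin d) (Fin d) F) 0 0
          (Matrix.scalar (Fin 1) e)) ∧ (A : Matrix (Fin d) (Fin d) F).det * e = 1 := by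
    intro y
    exact cent_blk hirr hx1 (mem_centralizer_iff.1 y.2 _ rfl)
  choose A e hA hy hd using key
  have hmul : ∀ y z, A (y * z) = A y * A z := by
    intro y z
    have h4 : Matrix.reindexAlgEquiv F F finSumFinEquiv (Matrix.fromBlocks (A (y * z) : Matrix (Fin d) (Fin d) F) 0 0
        (Matrix.scalar (Fin 1) (e (y * z)))) =
        Matrix.reindexAlgEquiv F F finSumFinEquiv (Matrix.fromBlocks ((A y : Matrix (Fin d) (Fin d) F) * (A z : Matrix (Fin d) (Fin d) F)) 0 0
        (Matrix.scalar (Fin 1) (e y) * Matrix.scalar (Fin 1) (e z))) := by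
      rw [← hy (y * z)]
      have h5 : ((y * z : centralizer ({blk d F x} : Set (Matrix.SpecialLinearGroup (Fin (d + 1)) F))) :
        Matrix (Fin (d + 1)) (Fin (d + 1)) F) = (y : Matrix (Fin (d + 1)) (Fin (d + 1)) F) * z := rfl
      rw [h5, hy y, hy z, ← map_mul, Matrix.fromBlocks_multiply]
      simp
    have h5 := (Matrix.reindexAlgEquiv F F (finSumFinEquiv (m := d) (n := 1))).injective h4
    exact Units.ext (Matrix.fromBlocks_inj.1 h5).1
  let f : centralizer ({blk d F x} : Set (Matrix.SpecialLinearGroup (Fin (d + 1)) F)) →*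
      centralizer ({Matrix.SpecialLinearGroup.toGL x} : Set (GL (Fin d) F)) :=
    MonoidHom.mk' (fun y => ⟨A y, hA y⟩) fun y z => Subtype.ext (hmul y z)
  apply Subgroup.card_dvd_of_injective f
  intro y z hyz
  have h4 : A y = A z := congrArg Subtype.val hyz
  have h5 : e y = e z := by
    have h6 := hd y
    rw [h4, ← hd z] at h6
    refine mul_left_cancel₀ ?_ h6
    intro h7
    have h8 := hd z
    rw [h7, zero_mul] at h8
    exact zero_ne_one h8
  apply Subtype.ext
  apply Subtype.ext
  rw [hy y, hy z, h4, h5]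

theorem card_psl44 {F : Type} [Field F] [Fintype F] (hF : Fintype.card F = 4) :
    Nat.card (Matrix.ProjectiveSpecialLinearGroup (Fin 4) F) = 987033600 :=
  card_psl hF (by norm_num) (by simp [Fin.prod_univ_succ]) (by norm_num)

/-- the projection when the center is trivial -/
noncomputable def pslEquiv {F : Type} [Field F] [Fintype F] {n : ℕ}
    (h : Nat.card (center (Matrix.SpecialLinearGroup (Fin n) F)) = 1) :
    Matrix.SpecialLinearGroup (Fin n) F ≃* Matrix.ProjectiveSpecialLinearGroup (Fin n) F :=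
  MulEquiv.ofBijective (QuotientGroup.mk' (center (Matrix.SpecialLinearGroup (Fin n) F)))
    ⟨by rw [← MonoidHom.ker_eq_bot_iff, QuotientGroup.ker_mk', ← Subgroup.card_eq_one, h],
      QuotientGroup.mk'_surjective _⟩

/-- centralisers of the subgroups of order `7` of `L₄(4)` -/
theorem cent_psl44 {F : Type} [Field F] [Fintype F] (hF : Fintype.card F = 4)
    (P : Subgroup (Matrix.ProjectiveSpecialLinearGroup (Fin 4) F)) (hP : Nat.card P = 7) :
    Nat.card (centralizer (P : Set (Matrix.ProjectiveSpecialLinearGroup (Fin 4) F))) ∣ 7 * 9 := by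
  have hrp : Fact (Nat.Prime 7) := ⟨by norm_num⟩
  obtain ⟨x, hx⟩ := exists_prime_orderOf_dvd_card' (G := Matrix.SpecialLinearGroup (Fin 3) F) 7
    (dvd_card_SL (n := 3) hF (by norm_num) (by norm_num) (by norm_num) (by norm_num))
  have hZ : Nat.card (center (Matrix.SpecialLinearGroup (Fin 4) F)) = 1 := by
    rw [card_center_SL 4 (by norm_num), hF]; rfl
  refine cent_dvd_of_one (y := pslEquiv hZ (blk 3 F x)) (by norm_num)
    (by rw [card_psl44 hF]; norm_num) ?_ ?_ P hP
  · rw [MulEquiv.orderOf_eq, orderOf_injective _ blk_injective, hx]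
  · rw [card_centralizer_equiv]
    exact card_cent_blk_dvd (d := 3) hF (by norm_num) (by norm_num) (by norm_num) (by norm_num) (by norm_num) x hx

set_option maxRecDepth 100000 in
/-- **`L₄(4)`: every proper subgroup misses a class of elements of prime order.** -/
theorem derAll_psl44 (OT : OrdDiv.OrderTable.{0})
    (hS : ∀ (X : Type) [Group X] [Finite X] [IsSimpleGroup X], Cfsg.IsKnownSimple' X)
    (F : Type) [Field F] [Fintype F] (hF : Fintype.card F = 4)
    (R : Subgroup (Matrix.ProjectiveSpecialLinearGroup (Fin 4) F)) (hR : R ≠ ⊤) : Der _ R := by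
  haveI : IsSimpleGroup (Matrix.ProjectiveSpecialLinearGroup (Fin 4) F) := S0249.result 4 (by norm_num)
  have hD : Data (Matrix.ProjectiveSpecialLinearGroup (Fin 4) F) [(7, 9, 54)] [2, 3, 5, 7, 17]
      [60, 168, 360, 504, 2448, 2520, 4080, 6048, 20160, 25920, 181440, 604800, 979200, 1451520, 1814400, 197406720,
        987033600] := by
    refine mk_data OT hS (l := [(2, 12), (3, 4), (5, 2), (7, 1), (17, 1)]) (card_psl44 hF) (by decide +kernel) ?_
    intro x hx
    rw [List.mem_singleton] at hx
    subst hx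
    exact entry_of_sub (by norm_num) (card_psl44 hF) (by norm_num) (by norm_num) (by norm_num) (by decide +kernel)
      (cent_psl44 hF)
  rcases mem_sub (l := [(2, 12), (3, 4), (5, 2), (7, 1), (17, 1)]) (card_psl44 hF) (by decide +kernel)
    (by decide +kernel) hD R hR with h | h
  · exact h
  · exfalso
    have h1 : sub 987033600 [(2, 12), (3, 4), (5, 2), (7, 1), (17, 1)] [(7, 9, 54)] [2, 3, 5, 7, 17]
        [60, 168, 360, 504, 2448, 2520, 4080, 6048, 20160, 25920, 181440, 604800, 979200, 1451520, 1814400, 197406720,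
          987033600] = [197406720] := by decide +kernel
    rw [h1, List.mem_singleton] at h
    have h2 := R.card_mul_index
    rw [h, card_psl44 hF] at h2
    have h3 : R.index = 5 := by omega
    have h4 := card_dvd_factorial R hR
    rw [h3, card_psl44 hF] at h4
    exact absurd h4 (by decide)

theorem clMaxA_psl44 (OT : OrdDiv.OrderTable.{0})
    (hS : ∀ (X : Type) [Group X] [Finite X] [IsSimpleGroup X], Cfsg.IsKnownSimple' X)
    (F : Type) [Field F] [Fintype F] (hF : Fintype.card F = 4) :
    ClMaxA (Matrix.ProjectiveSpecialLinearGroup (Fin 4) F) := fun M hM => derAll_psl44 OT hS F hF M hM.1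

end Cfsg.Agent.H503.El
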