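import Cfsg.Agent.H503.El.Fix

/-!
# TEAM ELUSIVE: `L₆(2)`, elements of order `9` (helper503)
-/

set_option autoImplicit false

namespace Cfsg.Agent.H503.El.Fix

open Subgroup

/-- the cube of an element of order `9` acting faithfully on a group of order `64` has no fixed points -/
theorem fpf9 {S V : Type*} [Group S] [CommGroup V] [Finite V] [MulDistribMulAction S V]
    (hV : Nat.card V = 64) {y : S} (hy : orderOf y = 9) (hf : ¬ ∀ v : V, y ^ 3 • v = v) (v : V)
    (hv : y ^ 3 • v = v) : v = 1 := by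
  classical
  let C : Subgroup V :=
    { carrier := {v | y ^ 3 • v = v}
      one_mem' := smul_one _
      mul_mem' := by
        intro v w hv hw
        show y ^ 3 • (v * w) = v * w
        rw [smul_mul', show y ^ 3 • v = v from hv, show y ^ 3 • w = w from hw]
      inv_mem' := by
        intro v hv
        show y ^ 3 • v⁻¹ = v⁻¹
        rw [smul_inv', show y ^ 3 • v = v from hv] }
  have hinv : ∀ (g : zpowers y) (v : V), v ∈ C → g.1 • v ∈ C := by
    rintro ⟨g, hg⟩ v hv
    obtain ⟨k, rfl⟩ := Subgroup.mem_zpowers_iff.1 hg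
    show y ^ 3 • (y ^ k • v) = y ^ k • v
    rw [← mul_smul, (((Commute.refl y).pow_left 3).zpow_right k).eq, mul_smul, show y ^ 3 • v = v from hv]
  let M : SubMulAction (zpowers y) V :=
    { carrier := {v | v ∉ C}
      smul_mem' := by
        intro g v hv h
        apply hv
        have h1 := hinv g⁻¹ _ h
        have h2 : (g⁻¹).1 • (g • v) = v := by
          show g⁻¹ • (g • v) = v
          rw [inv_smul_smul]
        rwa [h2] at h1 }
  have hfree : ∀ b : M, MulAction.stabilizer (zpowers y) b = ⊥ := by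
    rintro ⟨b, hb⟩
    rw [eq_bot_iff]
    rintro ⟨g, hg⟩ h
    have h1 : g • b = b := congrArg Subtype.val (MulAction.mem_stabilizer_iff.1 h)
    rw [Subgroup.mem_bot]
    by_contra hne
    have hg1 : g ≠ 1 := fun h => hne (Subtype.ext h)
    apply hb
    -- `y ^ 3` is a power of `g`
    have hfo : IsOfFinOrder y := orderOf_pos_iff.1 (by rw [hy]; norm_num)
    obtain ⟨k, rfl⟩ := Submonoid.mem_powers_iff _ _ |>.1 (hfo.mem_powers_iff_mem_zpowers.2 hg)
    have hk : ¬ 9 ∣ k := by
      intro h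
      rw [← hy] at h
      exact hg1 (orderOf_dvd_iff_pow_eq_one.1 h)
    obtain ⟨m, hm⟩ : ∃ m : ℕ, k * m % 9 = 3 := by
      have h2 : k % 9 ≠ 0 := fun h => hk (Nat.dvd_of_mod_eq_zero h)
      have h3 : k % 9 < 9 := Nat.mod_lt _ (by norm_num)
      have key : ∀ r < 9, r ≠ 0 → ∃ m < 9, r * m % 9 = 3 := by decide
      obtain ⟨m, -, hm⟩ := key _ h3 h2
      exact ⟨m, Eq.trans ((Nat.mod_modEq k 9).symm.mul_right m) hm⟩
    have h4 : y ^ 3 = (y ^ k) ^ m := by
      rw [← pow_mul, ← pow_mod_orderOf y (k * m), hy, hm]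
    show y ^ 3 • b = b
    rw [h4]
    have h5 : y ^ k ∈ MulAction.stabilizer S b := h1
    exact pow_mem h5 m
  have e := MulAction.selfEquivOrbitsQuotientProd hfree
  have h1 := Nat.card_congr e
  rw [Nat.card_prod, Nat.card_zpowers, hy] at h1
  have h2 : Nat.card M + Nat.card C = 64 := by
    have h3 : Nat.card M = (C : Set V)ᶜ.ncard := by
      rw [← Nat.card_coe_set_eq]; rfl
    have h4 : Nat.card C = (C : Set V).ncard := by rw [← Nat.card_coe_set_eq]; rfl
    rw [h3, h4, Set.ncard_compl_add_ncard, hV]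
  obtain ⟨j, hj, hCj⟩ := (Nat.dvd_prime_pow Nat.prime_two (m := 6)).1
    (show Nat.card C ∣ 2 ^ 6 by
      have := Subgroup.card_subgroup_dvd_card C
      rwa [hV] at this)
  have hj' : j = 0 ∨ j = 6 := by
    rw [h1, hCj] at h2
    interval_cases j <;> simp_all <;> omega
  rcases hj' with rfl | rfl
  · have h3 : C = ⊥ := Subgroup.eq_bot_of_card_eq C (by rw [hCj, pow_zero])
    have h4 : v ∈ C := hv
    rw [h3] at h4
    exact Subgroup.mem_bot.1 h4
  · exfalso
    have h3 : C = ⊤ := Subgroup.eq_top_of_card_eq C (by rw [hCj, hV]; norm_num)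
    apply hf
    intro w
    have h4 : w ∈ C := by rw [h3]; trivial
    exact h4

/-- the companion matrix of `X⁶ + X³ + 1` -/
def comp9 : Matrix (Fin 6) (Fin 6) (ZMod 2) :=
  !![0,0,0,0,0,1; 1,0,0,0,0,0; 0,1,0,0,0,0; 0,0,1,0,0,1; 0,0,0,1,0,0; 0,0,0,0,1,0]

set_option maxRecDepth 100000 in
theorem comp9_pow : comp9 ^ 9 = 1 ∧ comp9 ^ 3 ≠ 1 := by decide +kernel

set_option maxRecDepth 100000 in
theorem comp9_det : comp9.det = 1 := by decide +kernel

end Cfsg.Agent.H503.El.Fix
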