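import Cfsg.Agent.H503.El.Fix2
import Cfsg.Agent.H503.El.Nine
import Cfsg.Agent.H503.El.L44

/-!
# TEAM ELUSIVE: `L₆(2)` (helper503)
-/

set_option autoImplicit false

namespace Cfsg.Agent.H503.El

open Subgroup Cfsg.Agent.H970.StabNum Cfsg.Agent.H278.El Cfsg.Agent.H396 Cfsg.Agent

theorem card_psl62 {F : Type} [Field F] [Fintype F] (hF : Fintype.card F = 2) :
    Nat.card (Matrix.ProjectiveSpecialLinearGroup (Fin 6) F) = 20158709760 :=
  card_psl hF (by norm_num) (by simp [Fin.prod_univ_succ]) (by norm_num)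

section Act

variable {F : Type} [Field F] {n : ℕ}

/-- the action on vectors, written multiplicatively -/
@[reducible] def vecAct (n : ℕ) (F : Type) [Field F] :
    MulDistribMulAction (Matrix.SpecialLinearGroup (Fin n) F) (Multiplicative (Fin n → F)) where
  smul g v := Multiplicative.ofAdd ((g : Matrix (Fin n) (Fin n) F).mulVec (Multiplicative.toAdd v))
  one_smul v := by
    show Multiplicative.ofAdd (((1 : Matrix.SpecialLinearGroup (Fin n) F) : Matrix (Fin n) (Fin n) F).mulVec
      (Multiplicative.toAdd v)) = v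
    rw [Matrix.SpecialLinearGroup.coe_one, Matrix.one_mulVec, ofAdd_toAdd]
  mul_smul g h v := by
    show Multiplicative.ofAdd (((g * h : Matrix.SpecialLinearGroup (Fin n) F) : Matrix (Fin n) (Fin n) F).mulVec
      (Multiplicative.toAdd v)) = Multiplicative.ofAdd ((g : Matrix (Fin n) (Fin n) F).mulVec
        ((h : Matrix (Fin n) (Fin n) F).mulVec (Multiplicative.toAdd v)))
    rw [Matrix.SpecialLinearGroup.coe_mul, Matrix.mulVec_mulVec]
  smul_one g := by
    show Multiplicative.ofAdd ((g : Matrix (Fin n) (Fin n) F).mulVec 0) = 1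
    rw [Matrix.mulVec_zero, ofAdd_zero]
  smul_mul g v w := by
    show Multiplicative.ofAdd ((g : Matrix (Fin n) (Fin n) F).mulVec (Multiplicative.toAdd v + Multiplicative.toAdd w)) =
      Multiplicative.ofAdd ((g : Matrix (Fin n) (Fin n) F).mulVec (Multiplicative.toAdd v)) *
      Multiplicative.ofAdd ((g : Matrix (Fin n) (Fin n) F).mulVec (Multiplicative.toAdd w))
    rw [Matrix.mulVec_add, ofAdd_add]

attribute [local instance] vecAct

theorem vec_smul_def (g : Matrix.SpecialLinearGroup (Fin n) F) (v : Multiplicative (Fin n → F)) :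
    g • v = Multiplicative.ofAdd ((g : Matrix (Fin n) (Fin n) F).mulVec (Multiplicative.toAdd v)) := rfl

/-- an element fixing the basis vectors is trivial -/
theorem vec_basis (g : Matrix.SpecialLinearGroup (Fin n) F)
    (h : ∀ i : Fin n, g • Multiplicative.ofAdd (Pi.single i (1 : F) : Fin n → F) =
      Multiplicative.ofAdd (Pi.single i (1 : F) : Fin n → F)) : g = 1 := by
  apply Subtype.ext
  rw [Matrix.SpecialLinearGroup.coe_one]
  ext i j
  have h1 : (g : Matrix (Fin n) (Fin n) F).mulVec (Pi.single j 1) = Pi.single j 1 := h j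
  rw [Matrix.mulVec_single_one] at h1
  have h2 := congrFun h1 i
  rw [Matrix.col_apply] at h2
  rw [h2, Matrix.one_apply, Pi.single_apply]

end Act

attribute [local instance] vecAct

/-- an element of order `9` of `SL₆(2)` -/
theorem exists_nine {F : Type} [Field F] [Fintype F] (hF : Fintype.card F = 2) :
    ∃ y : Matrix.SpecialLinearGroup (Fin 6) F, orderOf y = 9 := by
  haveI : CharP F 2 := by
    obtain ⟨p, hp⟩ := CharP.exists F
    have hpp : Fact p.Prime := ⟨CharP.char_is_prime F p⟩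
    obtain ⟨n, -, hn⟩ := FiniteField.card F p
    rw [hF] at hn
    have h1 : p ∣ 2 := by rw [hn]; exact dvd_pow_self p n.2.ne'
    rwa [(Nat.prime_dvd_prime_iff_eq hpp.out Nat.prime_two).1 h1] at hp
  let f : ZMod 2 →+* F := ZMod.castHom (dvd_refl 2) F
  have hinj : Function.Injective (Matrix.SpecialLinearGroup.map (n := Fin 6) f) := by
    intro a b hab
    apply Subtype.ext
    have h1 : f.mapMatrix (a : Matrix (Fin 6) (Fin 6) (ZMod 2)) = f.mapMatrix (b : Matrix (Fin 6) (Fin 6) (ZMod 2)) :=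
      congrArg Subtype.val hab
    exact (Matrix.map_injective f.injective) h1
  let y : Matrix.SpecialLinearGroup (Fin 6) (ZMod 2) := ⟨Fix.comp9, Fix.comp9_det⟩
  refine ⟨Matrix.SpecialLinearGroup.map f y, ?_⟩
  rw [orderOf_injective _ hinj]
  haveI : Fact (Nat.Prime 3) := ⟨by norm_num⟩
  have h1 : ¬ y ^ 3 ^ 1 = 1 := by
    intro h
    have h2 : (y : Matrix (Fin 6) (Fin 6) (ZMod 2)) ^ 3 = 1 := by
      have := congrArg Subtype.val h
      rwa [Matrix.SpecialLinearGroup.coe_pow, pow_one, Matrix.SpecialLinearGroup.coe_one] at this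
    exact Fix.comp9_pow.2 h2
  have h2 : y ^ 3 ^ (1 + 1) = 1 := by
    apply Subtype.ext
    rw [Matrix.SpecialLinearGroup.coe_pow, Matrix.SpecialLinearGroup.coe_one]
    exact Fix.comp9_pow.1
  exact orderOf_eq_prime_pow h1 h2

set_option maxRecDepth 100000 in
/-- **`L₆(2)`: every proper subgroup misses a class of elements of prime order.** -/
theorem derAll_psl62 (OT : OrdDiv.OrderTable.{0})
    (hS : ∀ (X : Type) [Group X] [Finite X] [IsSimpleGroup X], Cfsg.IsKnownSimple' X)
    (F : Type) [Field F] [Fintype F] (hF : Fintype.card F = 2)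
    (R : Subgroup (Matrix.ProjectiveSpecialLinearGroup (Fin 6) F)) (hR : R ≠ ⊤) : Der _ R := by
  classical
  haveI : IsSimpleGroup (Matrix.ProjectiveSpecialLinearGroup (Fin 6) F) := S0249.result 6 (by norm_num)
  have hne : (20158709760 : ℕ) ≠ 31 := by norm_num
  have hent : ∀ P : Subgroup (Matrix.ProjectiveSpecialLinearGroup (Fin 6) F), Nat.card P = 31 →
      Nat.card (centralizer (P : Set (Matrix.ProjectiveSpecialLinearGroup (Fin 6) F))) ∣ 31 * 1 ∧
      Nat.card (normalizer (P : Set (Matrix.ProjectiveSpecialLinearGroup (Fin 6) F))) ∣ 31 * 5 :=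
    entry_of_ex (by norm_num) (card_psl62 hF) (by norm_num) (by norm_num) (by decide +kernel)
      (H809.SelfCent.psl_selfcent 6 2 31 (by simp) F hF)
  have hD : Data (Matrix.ProjectiveSpecialLinearGroup (Fin 6) F) [(31, 1, 5)] [2, 3, 5, 7, 31]
      [60, 168, 360, 504, 2520, 6048, 14880, 20160, 25920, 181440, 1451520, 9999360, 20158709760] := by
    refine mk_data OT hS (l := [(2, 15), (3, 4), (5, 1), (7, 2), (31, 1)]) (card_psl62 hF) (by decide +kernel) ?_
    intro x hx
    rw [List.mem_singleton] at hx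
    subst hx
    exact hent
  by_contra hder
  rcases mem_sub (l := [(2, 15), (3, 4), (5, 1), (7, 2), (31, 1)]) (card_psl62 hF) (by decide +kernel)
    (by decide +kernel) hD R hR with h | h
  · exact hder h
  have h1 : (sub 20158709760 [(2, 15), (3, 4), (5, 1), (7, 2), (31, 1)] [(31, 1, 5)] [2, 3, 5, 7, 31]
      [60, 168, 360, 504, 2520, 6048, 14880, 20160, 25920, 181440, 1451520, 9999360, 20158709760]).all
        (fun h => h == 63 * (2 ^ 10 * 155) || h == 63 * (2 ^ 15 * 155)) = true := by decide +kernel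
  rw [List.all_eq_true] at h1
  have h2 := h1 _ h
  rw [Bool.or_eq_true, beq_iff_eq, beq_iff_eq] at h2
  obtain ⟨a, ha7, ha15, hRa⟩ : ∃ a, 7 ≤ a ∧ a ≤ 15 ∧ Nat.card R = 63 * (2 ^ a * 155) := by
    rcases h2 with h2 | h2
    · exact ⟨10, by norm_num, by norm_num, h2⟩
    · exact ⟨15, by norm_num, by norm_num, h2⟩
  -- transfer to `SL`
  have hZ : Nat.card (center (Matrix.SpecialLinearGroup (Fin 6) F)) = 1 := by
    rw [H809.SelfCent.card_center_SL 6 (by norm_num), hF]; rfl
  let e := pslEquiv hZ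
  set R' : Subgroup (Matrix.SpecialLinearGroup (Fin 6) F) := R.comap e.toMonoidHom with hR'
  have hcR' : Nat.card R' = Nat.card R :=
    Nat.card_congr ((Equiv.subtypeEquiv e.toEquiv fun x => Iff.rfl))
  haveI : Fact (Nat.Prime 31) := ⟨by norm_num⟩
  obtain ⟨⟨x, hxR⟩, hx⟩ := exists_prime_orderOf_dvd_card' (G := R') 31
    (by rw [hcR', hRa]; exact Dvd.dvd.mul_left (Dvd.dvd.mul_left (by norm_num) _) _)
  rw [Subgroup.orderOf_mk] at hx
  obtain ⟨y0, hy0⟩ := exists_nine hF
  -- an automorphic image of `y0 ^ 3`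
  obtain ⟨φ, hφ⟩ : ∃ φ : Matrix.ProjectiveSpecialLinearGroup (Fin 6) F ≃* Matrix.ProjectiveSpecialLinearGroup (Fin 6) F,
      φ (e (y0 ^ 3)) ∈ R := by
    by_contra hcon
    push Not at hcon
    refine hder ⟨e (y0 ^ 3), ?_, hcon⟩
    rw [MulEquiv.orderOf_eq, orderOf_pow' _ (by norm_num), hy0]
    norm_num
  set y := e.symm (φ (e y0)) with hy
  have hoy : orderOf y = 9 := by
    rw [hy, MulEquiv.orderOf_eq, MulEquiv.orderOf_eq, MulEquiv.orderOf_eq, hy0]
  have hy3 : y ^ 3 = e.symm (φ (e (y0 ^ 3))) := by rw [hy, ← map_pow, ← map_pow, ← map_pow]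
  have hyR : y ^ 3 ∈ R' := by
    rw [hy3, hR', Subgroup.mem_comap]
    show e (e.symm _) ∈ R
    rw [e.apply_symm_apply]
    exact hφ
  have hoy3 : orderOf (y ^ 3) = 3 := by
    rw [orderOf_pow' _ (by norm_num), hoy]; norm_num
  have hV : Nat.card (Multiplicative (Fin 6 → F)) = 64 := by
    have h3 : Nat.card (Multiplicative (Fin 6 → F)) = Nat.card (Fin 6 → F) := rfl
    rw [h3, Nat.card_eq_fintype_card, Fintype.card_fun, hF, Fintype.card_fin]
    norm_num
  have h2F : (2 : F) = 0 := by
    have h3 : ((Fintype.card F : ℕ) : F) = 0 := Nat.cast_card_eq_zero F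
    rw [hF] at h3
    exact_mod_cast h3
  refine Fix.core (V := Multiplicative (Fin 6 → F)) hV ⟨_, vec_basis⟩ ?_ R' hxR hx hyR hoy3
    (fun v hv => Fix.fpf9 hV hoy ?_ v hv) ?_ ha7 (hcR'.trans hRa) ?_
  · intro v
    show Multiplicative.ofAdd (Multiplicative.toAdd v + Multiplicative.toAdd v) = 1
    rw [← two_smul F, h2F, zero_smul, ofAdd_zero]
  · intro hall
    have h3 : y ^ 3 = 1 := vec_basis _ fun i => hall _
    rw [h3, orderOf_one] at hoy3
    omega
  · intro P hP
    have hPe : Nat.card (P.map e.toMonoidHom) = 31 := by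
      rw [← hP]
      exact (Nat.card_congr (P.equivMapOfInjective _ e.injective).toEquiv).symm
    obtain ⟨h3, h4⟩ := hent _ hPe
    exact ⟨(Fix.card_cent_map e.injective P).trans h3, (Fix.card_norm_map e.injective P).trans h4⟩
  · intro K _ _ hK hK' hd
    have h15 : 2 ^ a * 155 ∣ 2 ^ 15 * 155 := Nat.mul_dvd_mul_right (pow_dvd_pow 2 ha15) _
    have hd' := hd.trans h15
    have h3 : Nat.card K ∣ Nat.card (Matrix.ProjectiveSpecialLinearGroup (Fin 6) F) := by
      rw [card_psl62 hF]
      exact hd'.trans (by norm_num)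
    have h4 := hD.tbl K hK hK' h3
    have h5 : ∀ s ∈ [60, 168, 360, 504, 2520, 6048, 14880, 20160, 25920, 181440, 1451520, 9999360, 20158709760],
        ¬ s ∣ 2 ^ 15 * 155 := by decide +kernel
    exact h5 _ h4 hd'

theorem clMaxA_psl62 (OT : OrdDiv.OrderTable.{0})
    (hS : ∀ (X : Type) [Group X] [Finite X] [IsSimpleGroup X], Cfsg.IsKnownSimple' X)
    (F : Type) [Field F] [Fintype F] (hF : Fintype.card F = 2) :
    ClMaxA (Matrix.ProjectiveSpecialLinearGroup (Fin 6) F) := fun M hM => derAll_psl62 OT hS F hF M hM.1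

end Cfsg.Agent.H503.El
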