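import Cfsg.Agent.H503.El.O8Main

/-!
# TEAM ELUSIVE: `Ω⁺₈(2)` over any field with two elements (helper503)

`ClMaxA` is false for `Ω⁺₈(2)`: the subgroups `Sp₆(2)` contain representatives of all `Aut`-classes of elements of
prime order (triality).
-/

set_option autoImplicit false

namespace Cfsg.Agent.H503.El

open Subgroup Cfsg.Agent.H278.El Cfsg.Agent.H396 Cfsg.Agent

/-- `Ω⁺₈` over isomorphic fields -/
noncomputable def pomCongr {F : Type} [Field F] [Fintype F] (hF : Fintype.card F = 2) :
    O8.T8 ≃* POmega F (quadFormPlus 4 F) :=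
  let φ : ZMod 2 ≃+* F := ZMod.ringEquivOfPrime F Nat.prime_two hF
  let E : isometryGroup (ZMod 2) O8.Q8 ≃* isometryGroup F (quadFormPlus 4 F) :=
    ClassicalGeometry.IsoTransfer.isometryGroupCongr φ O8.Q8 (quadFormPlus 4 F) (fun v => by
      show φ (quadFormPlus 4 (ZMod 2) v) = _
      unfold quadFormPlus
      rw [map_sum]
      simp only [map_mul, Function.comp_apply])
  let E' : Omega (ZMod 2) O8.Q8 ≃* Omega F (quadFormPlus 4 F) :=
    (E.subgroupMap (commutator _)).trans (MulEquiv.subgroupCongr (by
      rw [commutator_def, Subgroup.map_commutator]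
      show _ = commutator (isometryGroup F (quadFormPlus 4 F))
      rw [commutator_def]
      congr 1 <;> exact Subgroup.map_top_of_surjective _ E.surjective))
  LieClassical.FieldTransfer.centralQuotientCongr E'

/-- **`Ω⁺₈(2)`: every proper subgroup misses a `T`-class of elements of prime order.** -/
theorem derTAll_o8p (OT : OrdDiv.OrderTable.{0})
    (hS : ∀ (X : Type) [Group X] [Finite X] [IsSimpleGroup X], Cfsg.IsKnownSimple' X)
    (F : Type) [Field F] [Fintype F] (hF : Fintype.card F = 2)
    (R : Subgroup (POmega F (quadFormPlus 4 F))) (hR : R ≠ ⊤) : DerT _ R := by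
  refine DerT.congr (pomCongr hF) (O8.derTAll_t8 OT hS _ fun h => hR ?_)
  rw [eq_top_iff]
  intro x _
  have h1 : (pomCongr hF).symm x ∈ R.comap (pomCongr hF).toMonoidHom := by rw [h]; trivial
  rw [Subgroup.mem_comap] at h1
  simpa using h1

/-- **`Ω⁺₈(2)`: every maximal subgroup misses a `T`-class of elements of prime order.** -/
theorem clMax_o8p (OT : OrdDiv.OrderTable.{0})
    (hS : ∀ (X : Type) [Group X] [Finite X] [IsSimpleGroup X], Cfsg.IsKnownSimple' X)
    (F : Type) [Field F] [Fintype F] (hF : Fintype.card F = 2) : ClMax (POmega F (quadFormPlus 4 F)) :=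
  fun M hM => derTAll_o8p OT hS F hF M hM.1

end Cfsg.Agent.H503.El
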