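import Cfsg.Agent.H503.El.Base
import Cfsg.Agent.H732.SelfCentO
import Cfsg.Agent.S0293
import Cfsg.Agent.S0294
import Cfsg.Agent.S0296
import Cfsg.Agent.S0297

/-!
# TEAM ELUSIVE: `Ω⁻₈(2)`, `Ω⁺₁₀(2)` (helper503)
-/

set_option autoImplicit false

namespace Cfsg.Agent.H503.El

open Subgroup Cfsg.Agent.H970.StabNum Cfsg.Agent.H278.El Cfsg.Agent.H396 Cfsg.Agent

theorem card_o8m {F : Type} [Field F] [Fintype F] (hF : Fintype.card F = 2) (a b : F)
    (hab : ∀ z₁ z₂ : F, z₁ ^ 2 + a * z₁ * z₂ + b * z₂ ^ 2 = 0 → z₁ = 0 ∧ z₂ = 0) :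
    Nat.card (POmega F (quadFormMinus 3 F a b)) = 197406720 := by
  have hord := Cfsg.Agent.S0294.result (F := F) hF 4 (by norm_num) a b hab
  rw [show Nat.gcd 4 (2 ^ 4 + 1) = 1 by norm_num] at hord
  simp only [Nat.reduceSub, Finset.prod_range_succ, Finset.prod_range_zero] at hord
  norm_num at hord ⊢
  omega

theorem card_o10p {F : Type} [Field F] [Fintype F] (hF : Fintype.card F = 2) :
    Nat.card (POmega F (quadFormPlus 5 F)) = 23499295948800 := by
  have hord := Cfsg.Agent.S0293.result (F := F) hF 5 (by norm_num)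
  rw [show Nat.gcd 4 (2 ^ 5 - 1) = 1 by norm_num] at hord
  simp only [Nat.reduceSub, Finset.prod_range_succ, Finset.prod_range_zero] at hord
  norm_num at hord ⊢
  omega

set_option maxRecDepth 100000 in
/-- **`Ω⁻₈(2)`: every proper subgroup misses a class of elements of prime order.** -/
theorem derAll_o8m (OT : OrdDiv.OrderTable.{0})
    (hS : ∀ (X : Type) [Group X] [Finite X] [IsSimpleGroup X], Cfsg.IsKnownSimple' X)
    (F : Type) [Field F] [Fintype F] (hF : Fintype.card F = 2) (a b : F)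
    (hab : ∀ z₁ z₂ : F, z₁ ^ 2 + a * z₁ * z₂ + b * z₂ ^ 2 = 0 → z₁ = 0 ∧ z₂ = 0)
    (R : Subgroup (POmega F (quadFormMinus 3 F a b))) (hR : R ≠ ⊤) : Der _ R := by
  haveI : IsSimpleGroup (POmega F (quadFormMinus 3 F a b)) := S0297.result 4 le_rfl a b hab
  haveI : Finite (POmega F (quadFormMinus 3 F a b)) :=
    Nat.finite_of_card_ne_zero (by rw [card_o8m hF a b hab]; norm_num)
  exact der_of_ex OT hS (p := 17) (M := 4) (l := [(2, 12), (3, 4), (5, 1), (7, 1), (17, 1)]) (ps := [2, 3, 5, 7, 17])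
    (tbl := [60, 168, 360, 504, 2448, 2520, 4080, 6048, 20160, 25920, 181440, 1451520, 197406720])
    (card_o8m hF a b hab) (by norm_num) (by norm_num) (by norm_num)
    (by decide +kernel) (by decide +kernel) (by decide +kernel) (by decide +kernel)
    (H732.SelfCent.omega8minus_selfcent hF a b hab) R hR

set_option maxRecDepth 100000 in
/-- **`Ω⁺₁₀(2)`: every proper subgroup misses a class of elements of prime order.** -/
theorem derAll_o10p (OT : OrdDiv.OrderTable.{0})
    (hS : ∀ (X : Type) [Group X] [Finite X] [IsSimpleGroup X], Cfsg.IsKnownSimple' X)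
    (F : Type) [Field F] [Fintype F] (hF : Fintype.card F = 2)
    (R : Subgroup (POmega F (quadFormPlus 5 F))) (hR : R ≠ ⊤) : Der _ R := by
  haveI : IsSimpleGroup (POmega F (quadFormPlus 5 F)) := S0296.result 5 (by norm_num)
  haveI : Finite (POmega F (quadFormPlus 5 F)) :=
    Nat.finite_of_card_ne_zero (by rw [card_o10p hF]; norm_num)
  exact der_of_ex OT hS (p := 31) (M := 5) (l := [(2, 20), (3, 5), (5, 2), (7, 1), (17, 1), (31, 1)])
    (ps := [2, 3, 5, 7, 17, 31])
    (tbl := [60, 168, 360, 504, 2448, 2520, 4080, 6048, 14880, 20160, 25920, 181440, 604800, 979200, 1451520, 1814400,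
      9999360, 174182400, 197406720, 987033600, 47377612800, 23499295948800])
    (card_o10p hF) (by norm_num) (by norm_num) (by norm_num)
    (by decide +kernel) (by decide +kernel) (by decide +kernel) (by decide +kernel)
    (H732.SelfCent.omega10plus_selfcent hF) R hR

theorem clMaxA_o8m (OT : OrdDiv.OrderTable.{0})
    (hS : ∀ (X : Type) [Group X] [Finite X] [IsSimpleGroup X], Cfsg.IsKnownSimple' X)
    (F : Type) [Field F] [Fintype F] (hF : Fintype.card F = 2) (a b : F)
    (hab : ∀ z₁ z₂ : F, z₁ ^ 2 + a * z₁ * z₂ + b * z₂ ^ 2 = 0 → z₁ = 0 ∧ z₂ = 0) :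
    ClMaxA (POmega F (quadFormMinus 3 F a b)) := fun M hM => derAll_o8m OT hS F hF a b hab M hM.1

theorem clMaxA_o10p (OT : OrdDiv.OrderTable.{0})
    (hS : ∀ (X : Type) [Group X] [Finite X] [IsSimpleGroup X], Cfsg.IsKnownSimple' X)
    (F : Type) [Field F] [Fintype F] (hF : Fintype.card F = 2) :
    ClMaxA (POmega F (quadFormPlus 5 F)) := fun M hM => derAll_o10p OT hS F hF M hM.1

end Cfsg.Agent.H503.El
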