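import Mathlib

/-!
# TEAM ELUSIVE: matrix groups acting on vectors, written multiplicatively (helper503)
-/

set_option autoImplicit false

namespace Cfsg.Agent.H503.El

section Act

variable {S : Type*} [Group S] {F : Type*} [CommRing F] {ι : Type*} [Fintype ι] [DecidableEq ι]

/-- the action on vectors, written multiplicatively -/
@[reducible] def actOf (ρ : S →* Matrix ι ι F) :
    MulDistribMulAction S (Multiplicative (ι → F)) where
  smul g v := Multiplicative.ofAdd ((ρ g).mulVec (Multiplicative.toAdd v))
  one_smul v := by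
    show Multiplicative.ofAdd ((ρ 1).mulVec (Multiplicative.toAdd v)) = v
    rw [map_one, Matrix.one_mulVec, ofAdd_toAdd]
  mul_smul g h v := by
    show Multiplicative.ofAdd ((ρ (g * h)).mulVec (Multiplicative.toAdd v)) =
      Multiplicative.ofAdd ((ρ g).mulVec ((ρ h).mulVec (Multiplicative.toAdd v)))
    rw [map_mul, Matrix.mulVec_mulVec]
  smul_one g := by
    show Multiplicative.ofAdd ((ρ g).mulVec 0) = 1
    rw [Matrix.mulVec_zero, ofAdd_zero]
  smul_mul g v w := by
    show Multiplicative.ofAdd ((ρ g).mulVec (Multiplicative.toAdd v + Multiplicative.toAdd w)) =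
      Multiplicative.ofAdd ((ρ g).mulVec (Multiplicative.toAdd v)) *
      Multiplicative.ofAdd ((ρ g).mulVec (Multiplicative.toAdd w))
    rw [Matrix.mulVec_add, ofAdd_add]

theorem actOf_smul (ρ : S →* Matrix ι ι F) (g : S) (v : Multiplicative (ι → F)) :
    letI := actOf ρ
    g • v = Multiplicative.ofAdd ((ρ g).mulVec (Multiplicative.toAdd v)) := rfl

/-- an element fixing the basis vectors is trivial -/
theorem actOf_basis (ρ : S →* Matrix ι ι F) (g : S)
    (h : letI := actOf ρ
      ∀ i : ι, g • Multiplicative.ofAdd (Pi.single i (1 : F) : ι → F) =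
      Multiplicative.ofAdd (Pi.single i (1 : F) : ι → F)) : ρ g = 1 := by
  ext i j
  have h1 : (ρ g).mulVec (Pi.single j 1) = Pi.single j 1 := h j
  rw [Matrix.mulVec_single_one] at h1
  have h2 := congrFun h1 i
  rw [Matrix.col_apply] at h2
  rw [h2, Matrix.one_apply, Pi.single_apply]

end Act

end Cfsg.Agent.H503.El
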