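import Cfsg.Agent.H503.El.Five
import Cfsg.Agent.H503.El.Act
import Cfsg.Agent.H732.SelfCentO
import Cfsg.Agent.S0270
import Cfsg.Agent.LieClassical.FieldTransfer
import Cfsg.Agent.ClassicalGeometry.Sp4GraphAut

/-!
# TEAM ELUSIVE: `Sp₈(2)` (helper503)
-/

set_option autoImplicit false

namespace Cfsg.Agent.H503.El

open Subgroup Cfsg.Agent.H970.StabNum Cfsg.Agent.H278.El Cfsg.Agent.H396 Cfsg.Agent

section Sp

/-- the inclusion of the symplectic group in the matrices -/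
def spMat (m : ℕ) : Matrix.symplecticGroup (Fin m) (ZMod 2) →* Matrix (Fin m ⊕ Fin m) (Fin m ⊕ Fin m) (ZMod 2) where
  toFun g := g.1
  map_one' := rfl
  map_mul' _ _ := rfl

theorem spMat_injective (m : ℕ) : Function.Injective (spMat m) := Subtype.val_injective

/-- the projection is an isomorphism in characteristic two -/
noncomputable def pspEquiv {m : ℕ} (hm : 1 ≤ m) :
    Matrix.symplecticGroup (Fin m) (ZMod 2) ≃* PSp m (ZMod 2) :=
  MulEquiv.ofBijective (QuotientGroup.mk' (center (Matrix.symplecticGroup (Fin m) (ZMod 2))))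
    ⟨by rw [← MonoidHom.ker_eq_bot_iff, QuotientGroup.ker_mk',
        Cfsg.Agent.ClassicalGeometry.Sp4GraphAut.center_eq_bot hm], QuotientGroup.mk'_surjective _⟩

/-- matrix of order `5` with fixed vectors -/
def Y1 : Matrix (Fin 4 ⊕ Fin 4) (Fin 4 ⊕ Fin 4) (ZMod 2) :=
  Matrix.fromBlocks !![0,0,0,0; 0,0,0,0; 0,0,1,0; 0,0,0,1] !![1,1,0,0; 1,0,0,0; 0,0,0,0; 0,0,0,0]
    !![0,1,0,0; 1,1,0,0; 0,0,0,0; 0,0,0,0] !![0,1,0,0; 1,1,0,0; 0,0,1,0; 0,0,0,1]

/-- matrix of order `5` without fixed vectors -/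
def Y2 : Matrix (Fin 4 ⊕ Fin 4) (Fin 4 ⊕ Fin 4) (ZMod 2) :=
  Matrix.fromBlocks !![0,0,0,0; 0,0,0,0; 0,0,0,0; 0,0,0,0] !![1,1,0,0; 1,0,0,0; 0,0,1,1; 0,0,1,0]
    !![0,1,0,0; 1,1,0,0; 0,0,0,1; 0,0,1,1] !![0,1,0,0; 1,1,0,0; 0,0,0,1; 0,0,1,1]

/-- matrix of order `4` commuting with `Y1` -/
def Z4 : Matrix (Fin 4 ⊕ Fin 4) (Fin 4 ⊕ Fin 4) (ZMod 2) :=
  Matrix.fromBlocks !![1,0,0,0; 0,1,0,0; 0,0,1,0; 0,0,1,1] !![0,0,0,0; 0,0,0,0; 0,0,1,0; 0,0,1,0]
    !![0,0,0,0; 0,0,0,0; 0,0,0,0; 0,0,0,0] !![1,0,0,0; 0,1,0,0; 0,0,1,1; 0,0,0,1]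

set_option maxRecDepth 100000 in
theorem Y1_props : Y1 * Matrix.J (Fin 4) (ZMod 2) * Y1.transpose = Matrix.J (Fin 4) (ZMod 2) ∧ Y1 ^ 5 = 1 ∧ Y1 ≠ 1 := by
  decide +kernel

set_option maxRecDepth 100000 in
theorem Y2_props : Y2 * Matrix.J (Fin 4) (ZMod 2) * Y2.transpose = Matrix.J (Fin 4) (ZMod 2) ∧ Y2 ^ 5 = 1 ∧ Y2 ≠ 1 ∧
    Y2 ^ 4 + Y2 ^ 3 + Y2 ^ 2 + Y2 + 1 = 0 := by
  decide +kernel

set_option maxRecDepth 100000 in
theorem Z4_props : Z4 * Matrix.J (Fin 4) (ZMod 2) * Z4.transpose = Matrix.J (Fin 4) (ZMod 2) ∧ Z4 ^ 4 = 1 ∧ Z4 ^ 2 ≠ 1 ∧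
    Z4 * Y1 = Y1 * Z4 := by
  decide +kernel

/-- elements of `Sp₈(2)` -/
theorem exists_sp8 : ∃ y1 y2 z : Matrix.symplecticGroup (Fin 4) (ZMod 2), orderOf y1 = 5 ∧ orderOf y2 = 5 ∧
    orderOf z = 4 ∧ z * y1 = y1 * z ∧ (spMat 4 y2) ^ 4 + (spMat 4 y2) ^ 3 + (spMat 4 y2) ^ 2 + spMat 4 y2 + 1 = 0 := by
  haveI : Fact (Nat.Prime 5) := ⟨by norm_num⟩
  haveI : Fact (Nat.Prime 2) := ⟨by norm_num⟩
  refine ⟨⟨Y1, SymplecticGroup.mem_iff.2 Y1_props.1⟩, ⟨Y2, SymplecticGroup.mem_iff.2 Y2_props.1⟩,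
    ⟨Z4, SymplecticGroup.mem_iff.2 Z4_props.1⟩, ?_, ?_, ?_, ?_, ?_⟩
  · exact orderOf_eq_prime (Subtype.ext Y1_props.2.1) (fun h => Y1_props.2.2 (congrArg Subtype.val h))
  · exact orderOf_eq_prime (Subtype.ext Y2_props.2.1) (fun h => Y2_props.2.2.1 (congrArg Subtype.val h))
  · exact orderOf_eq_prime_pow (p := 2) (n := 1) (fun h => Z4_props.2.2.1 (congrArg Subtype.val h))
      (Subtype.ext Z4_props.2.1)
  · exact Subtype.ext Z4_props.2.2.2
  · exact Y2_props.2.2.2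

theorem card_sp82 : Nat.card (PSp 4 (ZMod 2)) = 47377612800 := by
  rw [H732.SelfCent.card_psp_eight (F := ZMod 2) (by rw [ZMod.card])]
  norm_num

set_option maxRecDepth 100000 in
/-- **`Sp₈(2)` over `ZMod 2`: every proper subgroup misses a class of elements of prime order.** -/
theorem derAll_sp82' (OT : OrdDiv.OrderTable.{0})
    (hS : ∀ (X : Type) [Group X] [Finite X] [IsSimpleGroup X], Cfsg.IsKnownSimple' X)
    (R : Subgroup (PSp 4 (ZMod 2))) (hR : R ≠ ⊤) : Der _ R := by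
  classical
  have hF : Fintype.card (ZMod 2) = 2 := ZMod.card 2
  haveI : IsSimpleGroup (PSp 4 (ZMod 2)) := S0270.result 4 (by norm_num) (by omega)
  have hself : ∃ P : Subgroup (PSp 4 (ZMod 2)), Nat.card P = 17 ∧ centralizer (P : Set (PSp 4 (ZMod 2))) = P :=
    H732.SelfCent.selfcent_of_orders (by norm_num) (by rw [card_sp82]; norm_num) (by rw [card_sp82]; norm_num)
      (fun s hs hsd hne g => H732.SelfCent.psp_eight_orders hF hs hsd hne g)
  have hD : Data (PSp 4 (ZMod 2)) [(17, 1, 8)] [2, 3, 5, 7, 17]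
      [60, 168, 360, 504, 2448, 2520, 4080, 6048, 20160, 25920, 181440, 604800, 979200, 1451520, 1814400, 174182400,
        197406720, 987033600, 47377612800] := by
    refine mk_data OT hS (l := [(2, 16), (3, 5), (5, 2), (7, 1), (17, 1)]) card_sp82 (by decide +kernel) ?_
    intro x hx
    rw [List.mem_singleton] at hx
    subst hx
    exact entry_of_ex (by norm_num) card_sp82 (by norm_num) (by norm_num) (by decide +kernel) hself
  rcases mem_sub (l := [(2, 16), (3, 5), (5, 2), (7, 1), (17, 1)]) card_sp82 (by decide +kernel)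
    (by decide +kernel) hD R hR with h | h
  · exact h
  have h1 : (sub 47377612800 [(2, 16), (3, 5), (5, 2), (7, 1), (17, 1)] [(17, 1, 8)] [2, 3, 5, 7, 17]
      [60, 168, 360, 504, 2448, 2520, 4080, 6048, 20160, 25920, 181440, 604800, 979200, 1451520, 1814400, 174182400,
        197406720, 987033600, 47377612800]).all (fun h => h % 25 != 0) = true := by decide +kernel
  rw [List.all_eq_true] at h1
  have h25 : ¬ 5 ^ 2 ∣ Nat.card R := by
    intro h2
    have h3 := h1 _ h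
    rw [show (5 : ℕ) ^ 2 = 25 by norm_num] at h2
    rw [Nat.mod_eq_zero_of_dvd h2] at h3
    exact absurd h3 (by decide)
  obtain ⟨y1, y2, z, ho1, ho2, hoz, hcz, hpol⟩ := exists_sp8
  let e := pspEquiv (m := 4) (by norm_num)
  refine Fix.der_of_two (p := 5) (by norm_num) R h25 (y1 := e y1) (y2 := e y2)
    (by rw [MulEquiv.orderOf_eq, ho1]) (by rw [MulEquiv.orderOf_eq, ho2]) ?_
  intro θ hθ
  letI := actOf (spMat 4)
  -- the image of `z`
  set w := e.symm (θ (e z)) with hw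
  have how : orderOf w = 4 := by
    rw [hw, MulEquiv.orderOf_eq, MulEquiv.orderOf_eq, MulEquiv.orderOf_eq, hoz]
  have hcw : w * y2 = y2 * w := by
    obtain ⟨k, hk⟩ := Subgroup.mem_zpowers_iff.1 hθ
    have h2 : Commute (θ (e z)) (e y2) := by
      rw [← hk]
      refine Commute.zpow_right ?_ k
      show θ (e z) * θ (e y1) = θ (e y1) * θ (e z)
      rw [← map_mul, ← map_mul, hcz, map_mul, map_mul]
    apply e.injective
    rw [map_mul, map_mul, hw, e.apply_symm_apply]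
    exact h2
  have hV : Nat.card (Multiplicative (Fin 4 ⊕ Fin 4 → ZMod 2)) = 256 := by
    have h3 : Nat.card (Multiplicative (Fin 4 ⊕ Fin 4 → ZMod 2)) = Nat.card (Fin 4 ⊕ Fin 4 → ZMod 2) := rfl
    rw [h3, Nat.card_eq_fintype_card, Fintype.card_fun, hF, Fintype.card_sum, Fintype.card_fin]
    norm_num
  have hadd : ∀ v : Fin 4 ⊕ Fin 4 → ZMod 2, v + v = 0 := fun v => CharTwo.add_self_eq_zero v
  refine Fix.no_four (V := Multiplicative (Fin 4 ⊕ Fin 4 → ZMod 2)) hV (fun v => ?_) ho2 ?_ ?_ ?_ hcw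
  · show Multiplicative.ofAdd (Multiplicative.toAdd v + Multiplicative.toAdd v) = 1
    rw [hadd, ofAdd_zero]
  · intro v hv
    have h3 : (spMat 4 y2).mulVec (Multiplicative.toAdd v) = Multiplicative.toAdd v := hv
    have hp : ∀ k : ℕ, ((spMat 4 y2) ^ k).mulVec (Multiplicative.toAdd v) = Multiplicative.toAdd v := by
      intro k
      induction k with
      | zero => rw [pow_zero, Matrix.one_mulVec]
      | succ k ih => rw [pow_succ, ← Matrix.mulVec_mulVec, h3, ih]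
    have h4 := congrArg (fun M => M.mulVec (Multiplicative.toAdd v)) hpol
    simp only [Matrix.add_mulVec, hp, h3, Matrix.one_mulVec, Matrix.zero_mulVec, hadd, zero_add] at h4
    show Multiplicative.ofAdd (Multiplicative.toAdd v) = 1
    rw [h4, ofAdd_zero]
  · intro v
    have h3 : w ^ 4 = 1 := orderOf_dvd_iff_pow_eq_one.1 (by rw [how])
    rw [← mul_smul, ← mul_smul, ← mul_smul]
    have h4 : w * w * w * w = w ^ 4 := by simp [pow_succ]
    rw [h4, h3, one_smul]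
  · intro hall
    have h3 : spMat 4 (w * w) = 1 := actOf_basis (spMat 4) (w * w) fun i => by
      rw [mul_smul]; exact hall _
    have h4 : w * w = 1 := spMat_injective 4 (h3.trans (map_one _).symm)
    have h5 : orderOf w ∣ 2 := orderOf_dvd_of_pow_eq_one (by rw [pow_two]; exact h4)
    rw [how] at h5
    omega

theorem clMaxA_sp82 (OT : OrdDiv.OrderTable.{0})
    (hS : ∀ (X : Type) [Group X] [Finite X] [IsSimpleGroup X], Cfsg.IsKnownSimple' X)
    (F : Type) [Field F] [Fintype F] (hF : Fintype.card F = 2) : ClMaxA (PSp 4 F) :=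
  ClMaxA.congr (Cfsg.Agent.LieClassical.FieldTransfer.pspCongr 4 (ZMod.ringEquivOfPrime F Nat.prime_two hF))
    (fun M hM => derAll_sp82' OT hS M hM.1)

theorem derAll_sp82 (OT : OrdDiv.OrderTable.{0})
    (hS : ∀ (X : Type) [Group X] [Finite X] [IsSimpleGroup X], Cfsg.IsKnownSimple' X)
    (F : Type) [Field F] [Fintype F] (hF : Fintype.card F = 2)
    (R : Subgroup (PSp 4 F)) (hR : R ≠ ⊤) : Der _ R :=
  (clMaxA_sp82 OT hS F hF).der R hR

end Sp

end Cfsg.Agent.H503.El
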