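import Cfsg.Agent.H503.El.PG
import Cfsg.Agent.H134.OmegaThree
import Cfsg.Agent.S0292
import Cfsg.Agent.S0295

/-!
# TEAM ELUSIVE: `Ω₇(3)` (helper503): every proper subgroup misses a prime.
-/

set_option autoImplicit false

namespace Cfsg.Agent.H503.El

open Subgroup Cfsg.Agent.H970.StabNum Cfsg.Agent.H278.El Cfsg.Agent.H396 Cfsg.Agent Cfsg.Agent.H938.Sax

theorem card_o73 {F : Type} [Field F] [Fintype F] (hF : Fintype.card F = 3) :
    Nat.card (POmega F (quadFormOdd 3 F)) = 4585351680 := by
  have hord := Cfsg.Agent.S0292.result (F := F) (q := 3) hF (by decide) 3 (by norm_num)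
  simp only [Finset.prod_range_succ, Finset.prod_range_zero] at hord
  norm_num at hord ⊢
  omega

set_option maxRecDepth 100000 in
/-- **`Ω₇(3)`: every proper subgroup misses a prime.** -/
theorem pgap_o73 (OT : OrdDiv.OrderTable.{0})
    (hS : ∀ (X : Type) [Group X] [Finite X] [IsSimpleGroup X], Cfsg.IsKnownSimple' X)
    (F : Type) [Field F] [Fintype F] (hF : Fintype.card F = 3)
    (R : Subgroup (POmega F (quadFormOdd 3 F))) (hR : R ≠ ⊤) : PGap _ R := by
  haveI : IsSimpleGroup (POmega F (quadFormOdd 3 F)) := S0295.result (by rw [hF]; decide) 3 le_rfl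
  haveI : Finite (POmega F (quadFormOdd 3 F)) := Nat.finite_of_card_ne_zero (by rw [card_o73 hF]; norm_num)
  exact (pgap_of_ex OT hS (p := 13) (M := 6) (l := [(2, 9), (3, 9), (5, 1), (7, 1), (13, 1)]) (ps := [2, 3, 5, 7, 13])
    (tbl := [60, 168, 360, 504, 1092, 2520, 5616, 6048, 9828, 20160, 25920, 29120, 181440, 262080, 1451520, 3265920,
      4245696, 6065280, 42456960, 4585351680]) (card_o73 hF) (by norm_num) (by norm_num) (by norm_num)
    (by decide +kernel) (by decide +kernel) (by decide +kernel)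
    (H134.OmegaThree.omega_odd_three hF) R hR).resolve_right (not_mem_of_isEmpty (by decide +kernel))

theorem derAll_o73 (OT : OrdDiv.OrderTable.{0})
    (hS : ∀ (X : Type) [Group X] [Finite X] [IsSimpleGroup X], Cfsg.IsKnownSimple' X)
    (F : Type) [Field F] [Fintype F] (hF : Fintype.card F = 3)
    (R : Subgroup (POmega F (quadFormOdd 3 F))) (hR : R ≠ ⊤) : Der _ R := by
  haveI : Finite (POmega F (quadFormOdd 3 F)) := Nat.finite_of_card_ne_zero (by rw [card_o73 hF]; norm_num)
  exact (pgap_o73 OT hS F hF R hR).der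

theorem clMaxA_o73 (OT : OrdDiv.OrderTable.{0})
    (hS : ∀ (X : Type) [Group X] [Finite X] [IsSimpleGroup X], Cfsg.IsKnownSimple' X)
    (F : Type) [Field F] [Fintype F] (hF : Fintype.card F = 3) : ClMaxA (POmega F (quadFormOdd 3 F)) :=
  fun M hM => derAll_o73 OT hS F hF M hM.1

end Cfsg.Agent.H503.El
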