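import Cfsg.Agent.H503.El.O83

/-!
# TEAM ELUSIVE: `PΩ⁺₈(3)`, main theorems (helper503)

* `pgap_o83` : a proper subgroup misses a prime or has the order of `Ω₇(3)`
* `derTAll_o83` : a proper subgroup misses a `T`-class of elements of prime order
-/

set_option autoImplicit false
set_option maxRecDepth 100000

namespace Cfsg.Agent.H503.El.O83

open Subgroup Cfsg.Agent.H970.StabNum Cfsg.Agent.H278.El Cfsg.Agent.H396 Cfsg.Agent Cfsg.Agent.H938.Sax

/-- no element of order `21` -/
theorem not_21 (g : T8) : orderOf g ≠ 21 := by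
  intro h
  have h1 : (21 : ℕ) ∈ Set.range (orderOf : T8 → ℕ) := ⟨g, h⟩
  have h2 := H899.O7.Spec.range_Q8
  have h3 : (21 : ℕ) ∈ H899.O7.Om := by
    rw [← h2]
    obtain ⟨g, hg⟩ := h1
    have e : T8 ≃* POmega (ZMod 3) (⇑(H899.O7.Spec.Q8)) := by
      rw [H899.O7.Spec.Q8, LieClassical.OrthForms.coe_plusForm]
    exact ⟨e g, by rw [MulEquiv.orderOf_eq, hg]⟩
  exact absurd h3 (by decide)

/-- no section `G₂(4)` -/
theorem not_g24 {L : Type} [Group L] [Finite L] (ι : L →* T8) (hι : Function.Injective ι) (A : Subgroup L) [A.Normal]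
    {F : Type} [Field F] [Fintype F] (hF : Fintype.card F = 4) (e : L ⧸ A ≃* ↥(Lie.chevG2.group F)) : False := by
  obtain ⟨H, hH, hc, -⟩ := S2371.result (F := F) 4 hF (by norm_num)
  obtain ⟨g, hg⟩ := hH.exists_generator
  have hog : orderOf g = 21 := by
    rw [orderOf_eq_card_of_forall_mem_zpowers hg, hc]; norm_num
  obtain ⟨x, hx⟩ := QuotientGroup.mk'_surjective A (e.symm g)
  have hox : 21 ∣ orderOf x := by
    have h1 := orderOf_map_dvd (QuotientGroup.mk' A) x
    rwa [hx, MulEquiv.orderOf_eq, Subgroup.orderOf_coe, hog] at h1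
  obtain ⟨k, hk⟩ := hox
  have hk0 : k ≠ 0 := by
    rintro rfl
    rw [mul_zero] at hk
    exact (orderOf_pos x).ne' hk
  apply not_21 (ι (x ^ k))
  rw [orderOf_injective ι hι, orderOf_pow' x hk0, hk, Nat.gcd_mul_left_left, Nat.mul_div_cancel _ (Nat.pos_of_ne_zero hk0)]

theorem dvd_27 (d : ℕ) (hd : d ∣ 27) (h : 27 ≡ d [MOD 7]) : d = 27 := by
  have h1 : ∀ d ∈ Nat.divisors 27, 27 % 7 = d % 7 → d = 27 := by decide
  exact h1 d (Nat.mem_divisors.2 ⟨hd, by norm_num⟩) h

/-- **`PΩ⁺₈(3)`: a proper subgroup misses a prime or has the order of `Ω₇(3)`.** -/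
theorem pgap_t8 (OT : OrdDiv.OrderTable.{0})
    (hS : ∀ (X : Type) [Group X] [Finite X] [IsSimpleGroup X], Cfsg.IsKnownSimple' X)
    (R : Subgroup T8) (hR : R ≠ ⊤) : PGap T8 R ∨ Nat.card R = 4585351680 := by
  classical
  haveI h13p : Fact (Nat.Prime 13) := ⟨by norm_num⟩
  have hent : ∀ P : Subgroup T8, Nat.card P = 13 → Nat.card (centralizer (P : Set T8)) ∣ 13 * 1 ∧
      Nat.card (normalizer (P : Set T8)) ∣ 13 * 6 :=
    entry_of_ex (by norm_num) card_t8 (by norm_num) (by norm_num) (by decide +kernel)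
      (H134.OmegaThree.omega_plus_three (F := ZMod 3) (ZMod.card 3))
  have hD : Data T8 [(13, 1, 6)] [2, 3, 5, 7, 13]
      [60, 168, 360, 504, 1092, 2520, 5616, 6048, 7800, 9828, 20160, 25920, 29120, 62400, 181440, 262080, 604800,
        1451520, 1814400, 3265920, 4245696, 6065280, 17971200, 42456960, 174182400, 251596800, 4585351680,
        4952179814400] := by
    refine mk_data OT hS (l := [(2, 12), (3, 12), (5, 2), (7, 1), (13, 1)]) card_t8 (by decide +kernel) ?_
    intro x hx
    rw [List.mem_singleton] at hx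
    subst hx
    exact hent
  rcases pgap_sub (l := [(2, 12), (3, 12), (5, 2), (7, 1), (13, 1)]) card_t8 (by decide +kernel)
    (by decide +kernel) hD R hR with h | h
  · exact Or.inl h
  right
  have h1 : (sub 4952179814400 [(2, 12), (3, 12), (5, 2), (7, 1), (13, 1)] [(13, 1, 6)] [2, 3, 5, 7, 13]
      [60, 168, 360, 504, 1092, 2520, 5616, 6048, 7800, 9828, 20160, 25920, 29120, 62400, 181440, 262080, 604800,
        1451520, 1814400, 3265920, 4245696, 6065280, 17971200, 42456960, 174182400, 251596800, 4585351680,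
        4952179814400]).all
        (fun h => h == 4585351680 || (h == 251596800 || (h == 6793113600 || (h == 183414067200 ||
          h == 123804495360)))) = true := by decide +kernel
  rw [List.all_eq_true] at h1
  have h2 := h1 _ h
  simp only [Bool.or_eq_true, beq_iff_eq] at h2
  rcases h2 with h2 | h2
  · exact h2
  exfalso
  -- the structure
  have hR13 : 13 ∣ Nat.card R := by rcases h2 with h2 | h2 | h2 | h2 <;> rw [h2] <;> norm_num
  have hR169 : ¬ 13 ^ 2 ∣ Nat.card R := by rcases h2 with h2 | h2 | h2 | h2 <;> rw [h2] <;> norm_num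
  have hR49 : ¬ 7 ^ 2 ∣ Nat.card R := by rcases h2 with h2 | h2 | h2 | h2 <;> rw [h2] <;> norm_num
  have hR125 : ¬ 5 ^ 3 ∣ Nat.card R := by rcases h2 with h2 | h2 | h2 | h2 <;> rw [h2] <;> norm_num
  have hR7 : 7 ∣ Nat.card R := by rcases h2 with h2 | h2 | h2 | h2 <;> rw [h2] <;> norm_num
  have hR5 : 5 ∣ Nat.card R := by rcases h2 with h2 | h2 | h2 | h2 <;> rw [h2] <;> norm_num
  obtain ⟨x, hx⟩ := exists_prime_orderOf_dvd_card' 13 hR13
  have hP : Nat.card (zpowers x) = 13 := by rw [Nat.card_zpowers, hx]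
  have hPm : Nat.card ((zpowers x).map R.subtype) = 13 := by
    rw [← hP]
    exact (Nat.card_congr ((zpowers x).equivMapOfInjective _ R.subtype_injective).toEquiv).symm
  obtain ⟨L, hLn, A, hAn, hs, hA13, hPL, hcard, h13, D, m, hN, hDC, hDA, hpow⟩ := Struct.exists_struct' hP hR169
  have hC13 : Nat.card (centralizer ((zpowers x : Subgroup R) : Set R)) ∣ 13 :=
    (Fix.card_cent_map R.subtype_injective _).trans (by simpa using (hent _ hPm).1)
  have hN78 : Nat.card (normalizer ((zpowers x : Subgroup R) : Set R)) ∣ 78 :=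
    (Fix.card_norm_map R.subtype_injective _).trans (hent _ hPm).2
  have hD1 : D = 1 := by
    rcases (Nat.dvd_prime h13p.out).1 (hDC.trans hC13) with h3 | h3
    · exact h3
    · exact absurd (h3 ▸ hDA) hA13
  subst hD1
  have hc6 : L.index ∣ 6 := by
    rw [hN] at hN78
    have h3 : L.index * m * 13 ∣ 6 * 13 := by
      have h4 : L.index * (1 * (13 * m)) = L.index * m * 13 := by ring
      rw [h4] at hN78
      exact hN78
    exact (Dvd.intro _ rfl).trans (Nat.dvd_of_mul_dvd_mul_right (by norm_num) h3)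
  have hpow' : ∀ r : ℕ, r.Prime → r ^ ((Nat.card A).factorization r) ≡ 1 [MOD 13] := by
    intro r hr
    obtain ⟨j, hj, hj'⟩ := hpow r hr
    rwa [Nat.dvd_one.1 hj] at hj'
  set a := Nat.card A with ha
  set s := Nat.card (L ⧸ A) with hsd
  set c := L.index with hc
  have ha0 : a ≠ 0 := (Nat.card_pos (α := A)).ne'
  have hadvd : a ∣ Nat.card R := ⟨s * c, by rw [hcard]; ring⟩
  have hsdvd : s ∣ Nat.card R := ⟨a * c, by rw [hcard]; ring⟩
  have h7a : ¬ 7 ∣ a := by
    intro h3
    have h4 := hpow' 7 (by norm_num)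
    have h5 : 1 ≤ a.factorization 7 := ((by norm_num : Nat.Prime 7).dvd_iff_one_le_factorization ha0).1 h3
    have h6 : ¬ 2 ≤ a.factorization 7 := fun h6 => hR49
      ((((by norm_num : Nat.Prime 7).pow_dvd_iff_le_factorization ha0).2 h6).trans hadvd)
    have h7 : a.factorization 7 = 1 := by omega
    rw [h7] at h4
    exact absurd h4 (by decide)
  have h5a : ¬ 5 ∣ a := by
    intro h3
    have h4 := hpow' 5 (by norm_num)
    have h5 : 1 ≤ a.factorization 5 := ((by norm_num : Nat.Prime 5).dvd_iff_one_le_factorization ha0).1 h3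
    have h6 : ¬ 3 ≤ a.factorization 5 := fun h6 => hR125
      ((((by norm_num : Nat.Prime 5).pow_dvd_iff_le_factorization ha0).2 h6).trans hadvd)
    have h7 : a.factorization 5 = 1 ∨ a.factorization 5 = 2 := by omega
    rcases h7 with h7 | h7 <;> rw [h7] at h4 <;> exact absurd h4 (by decide)
  have h7c : ¬ 7 ∣ c := fun h3 => by
    have := h3.trans hc6
    omega
  have h5c : ¬ 5 ∣ c := fun h3 => by
    have := h3.trans hc6
    omega
  have h7s : 7 ∣ s := by
    rw [hcard] at hR7
    rcases (by norm_num : Nat.Prime 7).dvd_mul.1 hR7 with h3 | h3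
    · exact ((by norm_num : Nat.Prime 7).dvd_mul.1 h3).resolve_left h7a
    · exact absurd h3 h7c
  have h5s : 5 ∣ s := by
    rw [hcard] at hR5
    rcases (by norm_num : Nat.Prime 5).dvd_mul.1 hR5 with h3 | h3
    · exact ((by norm_num : Nat.Prime 5).dvd_mul.1 h3).resolve_left h5a
    · exact absurd h3 h5c
  have hna : ¬ ∀ u v : L ⧸ A, u * v = v * u := by
    intro hab
    letI : CommGroup (L ⧸ A) := { (inferInstance : Group (L ⧸ A)) with mul_comm := hab }
    have h3 : s.Prime := IsSimpleGroup.prime_card (α := L ⧸ A)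
    have h4 : 13 = s := (Nat.prime_dvd_prime_iff_eq h13p.out h3).1 h13
    omega
  have hsT : s ∣ Nat.card T8 := hsdvd.trans (Subgroup.card_subgroup_dvd_card R)
  have hstbl := hD.tbl (L ⧸ A) hs hna hsT
  -- `a` is odd
  have h2a : ¬ 2 ∣ a := by
    intro h3
    have h4 := hpow' 2 Nat.prime_two
    have h5 : 1 ≤ a.factorization 2 := (Nat.prime_two.dvd_iff_one_le_factorization ha0).1 h3
    have hs2 : 2 ∣ s := by
      have h6 : ∀ s ∈ [60, 168, 360, 504, 1092, 2520, 5616, 6048, 7800, 9828, 20160, 25920, 29120, 62400, 181440,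
          262080, 604800, 1451520, 1814400, 3265920, 4245696, 6065280, 17971200, 42456960, 174182400, 251596800,
          4585351680, 4952179814400], 2 ∣ s := by decide +kernel
      exact h6 _ hstbl
    have h7 : ¬ 2 ^ 13 ∣ Nat.card R := by rcases h2 with h2 | h2 | h2 | h2 <;> rw [h2] <;> norm_num
    have h8 : ¬ 12 ≤ a.factorization 2 := by
      intro h8
      apply h7
      have h9 : 2 ^ 12 ∣ a := (Nat.prime_two.pow_dvd_iff_le_factorization ha0).2 h8
      have h10 : 2 ^ 12 * 2 ∣ a * s := Nat.mul_dvd_mul h9 hs2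
      rw [hcard]
      exact (h10.trans (Dvd.intro _ rfl))
    generalize a.factorization 2 = v at h4 h5 h8
    have h9 : v < 12 := by omega
    unfold Nat.ModEq at h4
    interval_cases v <;> omega
  have hs9 : 2 ^ 8 ∣ s := by
    have h3 : 2 ^ 9 ∣ Nat.card R := by rcases h2 with h2 | h2 | h2 | h2 <;> rw [h2] <;> norm_num
    rw [hcard, mul_assoc] at h3
    have h4 : Nat.Coprime (2 ^ 9) a :=
      Nat.Coprime.pow_left _ ((Nat.Prime.coprime_iff_not_dvd Nat.prime_two).2 h2a)
    have h5 : 2 ^ 9 ∣ s * c := h4.dvd_of_dvd_mul_left h3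
    have h6 : 2 ^ 9 ∣ s * 6 := h5.trans (Nat.mul_dvd_mul_left _ hc6)
    have h7 : 2 ^ 8 * 2 ∣ s * 3 * 2 := by
      rw [mul_assoc]; exact h6
    have h8 : 2 ^ 8 ∣ s * 3 := Nat.dvd_of_mul_dvd_mul_right (by norm_num) h7
    exact (Nat.Coprime.pow_left 8 (by norm_num)).dvd_of_dvd_mul_right h8
  have hss : s = 251596800 ∨ s = 4585351680 := by
    have h3 : ∀ s ∈ [60, 168, 360, 504, 1092, 2520, 5616, 6048, 7800, 9828, 20160, 25920, 29120, 62400, 181440,
        262080, 604800, 1451520, 1814400, 3265920, 4245696, 6065280, 17971200, 42456960, 174182400, 251596800,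
        4585351680, 4952179814400], 2 ^ 8 ∣ s → 5 ∣ s → 7 ∣ s → 13 ∣ s → s ≠ 4952179814400 →
        s = 251596800 ∨ s = 4585351680 := by decide +kernel
    refine h3 _ hstbl hs9 h5s h7s h13 ?_
    intro h4
    have h5 : s ≤ Nat.card R := Nat.le_of_dvd Nat.card_pos hsdvd
    rcases h2 with h2 | h2 | h2 | h2 <;> rw [h2, h4] at h5 <;> omega
  rcases hss with hss | hss
  · -- `G₂(4)`
    obtain ⟨g, hg, hreal⟩ := OrdDiv.exists_real_filter OT (S := L ⧸ A) (hS _) hna
      (l := [(2, 12), (3, 12), (5, 2), (7, 1), (13, 1)]) (N := 4952179814400) (by decide +kernel)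
      (by rw [← card_t8]; exact hsT) (fun o => o == 251596800) (by rw [← hsd, hss]; rfl)
    have hj : ((OrdDiv.cands [(2, 12), (3, 12), (5, 2), (7, 1), (13, 1)] 4952179814400).filter
        fun g => OrdDiv.ordN g == 251596800).all (fun g => match g with
          | .g2 q => q == 4
          | _ => false) = true := by decide +kernel
    rw [List.all_eq_true] at hj
    have hj' := hj g hg
    have hJ : ∃ (F : Type) (_ : Field F) (_ : Fintype F), Fintype.card F = 4 ∧
        Nonempty ((L ⧸ A) ≃* ↥(Lie.chevG2.group F)) := by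
      cases g with
      | g2 q =>
        have hq : q = 4 := by
          have : (q == 4) = true := hj'
          exact beq_iff_eq.1 this
        subst hq
        exact hreal
      | _ => exact absurd hj' Bool.false_ne_true
    obtain ⟨F, _, _, hF, ⟨e⟩⟩ := hJ
    exact not_g24 (R.subtype.comp L.subtype) (fun u v huv => Subtype.ext (Subtype.ext huv)) A hF e
  · -- `3³ : Ω₇(3)`
    have h3R : Nat.card R = 123804495360 := by
      rcases h2 with h2 | h2 | h2 | h2
      · exfalso
        rw [hss, h2] at hsdvd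
        exact absurd hsdvd (by norm_num)
      · exfalso
        rw [hss, h2] at hsdvd
        exact absurd hsdvd (by norm_num)
      · exfalso
        rw [hcard, hss] at h2
        have h3 : a * c = 40 := by nlinarith
        have h4 : 5 ∣ a * c := by rw [h3]; norm_num
        rcases (by norm_num : Nat.Prime 5).dvd_mul.1 h4 with h5 | h5
        · exact h5a h5
        · exact h5c h5
      · exact h2
    have hac : a * c = 27 := by
      rw [hcard, hss] at h3R
      nlinarith
    have hc3 : c ∣ 3 := by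
      have h4 : c ∣ 27 := ⟨a, by rw [← hac, mul_comm]⟩
      exact (Nat.dvd_gcd hc6 h4).trans (by norm_num)
    have ha27 : a = 27 := by
      rcases (Nat.dvd_prime Nat.prime_three).1 hc3 with h3 | h3
      · rw [h3, mul_one] at hac; exact hac
      · exfalso
        rw [h3] at hac
        have h4 : a = 3 ^ 2 := by omega
        have h5 := hpow' 3 Nat.prime_three
        rw [h4, Nat.prime_three.factorization_pow, Finsupp.single_eq_same] at h5
        exact absurd h5 (by decide)
    refine Struct.no_ext' A (p := 13) (r := 7) (by norm_num) (by norm_num) hs h13 h7s (by rw [← ha, ha27]; norm_num)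
      (by rw [← ha, ha27]; norm_num) ?_ (by rw [← ha, ha27]; norm_num) ?_
    · rw [← ha, ha27]
      exact dvd_27
    · intro u v hu huv
      have hu' : orderOf ((u : R) : T8) = 13 := by rw [Subgroup.orderOf_coe, Subgroup.orderOf_coe, hu]
      have h3 := (hent (zpowers ((u : R) : T8)) (by rw [Nat.card_zpowers, hu'])).1
      have h4 : ((v : R) : T8) ∈ centralizer ((zpowers ((u : R) : T8) : Subgroup T8) : Set T8) := by
        rw [zpowers_eq_closure, centralizer_closure, mem_centralizer_singleton_iff]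
        exact congrArg (fun z : L => ((z : R) : T8)) huv
      have h5 := Subgroup.orderOf_dvd_natCard _ h4
      have h6 := h5.trans h3
      rw [Subgroup.orderOf_coe, Subgroup.orderOf_coe] at h6
      simpa using h6

/-- **`PΩ⁺₈(3)`: every proper subgroup misses a `T`-class of elements of prime order.** -/
theorem derTAll_t8 (OT : OrdDiv.OrderTable.{0})
    (hS : ∀ (X : Type) [Group X] [Finite X] [IsSimpleGroup X], Cfsg.IsKnownSimple' X)
    (R : Subgroup T8) (hR : R ≠ ⊤) : DerT T8 R := by
  rcases pgap_t8 OT hS R hR with h | h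
  · exact Der.derT h.der
  · exact Fix.derT_of_two (p := 5) (by norm_num) R (by rw [h]; norm_num) order_y1 order_y2 not_conj

end Cfsg.Agent.H503.El.O83

namespace Cfsg.Agent.H503.El

open Subgroup Cfsg.Agent.H278.El Cfsg.Agent.H396 Cfsg.Agent Cfsg.Agent.H938.Sax

variable (OT : OrdDiv.OrderTable.{0})
    (hS : ∀ (X : Type) [Group X] [Finite X] [IsSimpleGroup X], Cfsg.IsKnownSimple' X)
    (F : Type) [Field F] [Fintype F] (hF : Fintype.card F = 3)

include hF in
theorem equiv_o83 : Nonempty (O83.T8 ≃* POmega F (quadFormPlus 4 F)) :=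
  UGT.U2.Rec.Congr.nonempty_POmega (F := ZMod 3) (F' := F) (ι := Fin 4 ⊕ Fin 4)
    (ZMod.ringEquivOfPrime F Nat.prime_three hF) (Q := quadFormPlus 4 (ZMod 3)) (Q' := quadFormPlus 4 F)
    (fun v => by simp [quadFormPlus, map_sum, map_mul])

theorem comap_ne_top {T S : Type} [Group T] [Group S] (e : T ≃* S) {R : Subgroup S} (hR : R ≠ ⊤) :
    R.comap e.toMonoidHom ≠ ⊤ := by
  intro h
  apply hR
  rw [eq_top_iff]
  intro x _
  have h1 : e.symm x ∈ R.comap e.toMonoidHom := by rw [h]; trivial
  rw [Subgroup.mem_comap] at h1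
  simpa using h1

include OT hS hF

/-- **`PΩ⁺₈(3)`: a proper subgroup misses a prime or has the order of `Ω₇(3)`.** -/
theorem pgap_o83 (R : Subgroup (POmega F (quadFormPlus 4 F))) (hR : R ≠ ⊤) :
    PGap _ R ∨ Nat.card R = 4585351680 := by
  obtain ⟨e⟩ := equiv_o83 F hF
  have h2 : Nat.card (R.comap e.toMonoidHom) = Nat.card R :=
    Nat.card_congr (Equiv.subtypeEquiv e.toEquiv fun x => Iff.rfl)
  rcases O83.pgap_t8 OT hS _ (comap_ne_top e hR) with h | h
  · exact Or.inl (PGap.congr e h)
  · exact Or.inr (by rwa [h2] at h)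

/-- **`PΩ⁺₈(3)`: every proper subgroup misses a `T`-class of elements of prime order.** -/
theorem derTAll_o83 (R : Subgroup (POmega F (quadFormPlus 4 F))) (hR : R ≠ ⊤) : DerT _ R := by
  obtain ⟨e⟩ := equiv_o83 F hF
  exact DerT.congr e (O83.derTAll_t8 OT hS _ (comap_ne_top e hR))

theorem clMax_o83 : ClMax (POmega F (quadFormPlus 4 F)) :=
  fun M hM => derTAll_o83 OT hS F hF M hM.1

end Cfsg.Agent.H503.El
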