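import Cfsg.Agent.H938.Sax.Base
import Cfsg.Agent.H503.El.Om
import Cfsg.Agent.H503.El.L62
import Cfsg.Agent.H503.El.Sp8
import Cfsg.Agent.H503.El.O8Fin

/-!
# The small groups: prime versions (for S2528, S2498, S3522) (helper503)

`pgap_*` : a proper subgroup misses a prime divisor of the order of the group, or its order is in an explicit list.
-/

set_option autoImplicit false
set_option maxRecDepth 100000

namespace Cfsg.Agent.H503.El

open Subgroup Cfsg.Agent.H970.StabNum Cfsg.Agent.H278.El Cfsg.Agent.H396 Cfsg.Agent Cfsg.Agent.H938.Sax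

theorem pgap_sub {T : Type} [Group T] [Finite T] {N : ℕ} {l : List (ℕ × ℕ)} {data : List (ℕ × ℕ × ℕ)}
    {ps tbl : List ℕ} (hN : Nat.card T = N) (hv : OrdDiv.valid l N = true)
    (hl : (l.all fun x => N % x.1 == 0) = true) (D : Data T data ps tbl) (R : Subgroup T) (hR : R ≠ ⊤) :
    PGap T R ∨ Nat.card R ∈ sub N l data ps tbl := by
  subst hN
  by_cases h : ∀ x ∈ l, Nat.card R % x.1 = 0
  · right
    unfold sub
    rw [List.mem_filter]
    refine ⟨mem_divs_of_valid hv (Subgroup.card_subgroup_dvd_card R), bandI ?_ (bandI ?_ (D.feas R))⟩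
    · rw [List.all_eq_true]
      intro x hx
      exact beqI (h x hx)
    · rw [Nat.blt_eq]
      refine lt_of_le_of_ne (Nat.le_of_dvd Nat.card_pos (Subgroup.card_subgroup_dvd_card R)) fun h1 => hR ?_
      exact Subgroup.eq_top_of_card_eq R h1
  · left
    push Not at h
    obtain ⟨x, hx, h1⟩ := h
    rw [List.all_eq_true] at hl
    have h2 := hl x hx
    rw [beq_iff_eq] at h2
    exact ⟨x.1, OrdDiv.valid_prime hv x hx, Nat.dvd_of_mod_eq_zero h2, fun h3 => h1 (Nat.mod_eq_zero_of_dvd h3)⟩

/-- one self-centralizing subgroup of prime order -/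
theorem pgap_of_ex {T : Type} [Group T] [Finite T] [IsSimpleGroup T] (OT : OrdDiv.OrderTable.{0})
    (hS : ∀ (X : Type) [Group X] [Finite X] [IsSimpleGroup X], Cfsg.IsKnownSimple' X)
    {N p M : ℕ} {l : List (ℕ × ℕ)} {ps tbl : List ℕ} (hN : Nat.card T = N) (hp : p.Prime)
    (hp2 : ¬ p ^ 2 ∣ N) (hne : N ≠ p) (hM : okM N p 1 M = true)
    (hok : allOk N l [(p, 1, M)] ps tbl = true) (hl : (l.all fun x => N % x.1 == 0) = true)
    (h : ∃ R : Subgroup T, Nat.card R = p ∧ centralizer (R : Set T) = R)
    (R : Subgroup T) (hR : R ≠ ⊤) : PGap T R ∨ Nat.card R ∈ sub N l [(p, 1, M)] ps tbl := by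
  have hv : OrdDiv.valid l N = true := by
    unfold allOk at hok
    rw [Bool.and_eq_true] at hok
    exact hok.1
  refine pgap_sub hN hv hl (mk_data OT hS hN hok fun x hx => ?_) R hR
  rw [List.mem_singleton] at hx
  subst hx
  exact entry_of_ex hp hN hp2 hne hM h

theorem not_mem_of_isEmpty {l : List ℕ} (h : l.isEmpty = true) {x : ℕ} : x ∉ l := by
  rw [List.isEmpty_iff] at h
  rw [h]
  exact List.not_mem_nil

variable (OT : OrdDiv.OrderTable.{0})
  (hS : ∀ (X : Type) [Group X] [Finite X] [IsSimpleGroup X], Cfsg.IsKnownSimple' X)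

include OT hS

theorem pgap_psl34 (F : Type) [Field F] [Fintype F] (hF : Fintype.card F = 4)
    (R : Subgroup (Matrix.ProjectiveSpecialLinearGroup (Fin 3) F)) (hR : R ≠ ⊤) : PGap _ R := by
  haveI : IsSimpleGroup (Matrix.ProjectiveSpecialLinearGroup (Fin 3) F) := S0249.result 3 le_rfl
  exact (pgap_of_ex OT hS (p := 5) (M := 2) (l := [(2, 6), (3, 2), (5, 1), (7, 1)]) (ps := [2, 3, 5, 7])
    (tbl := [60, 168, 360, 504, 2520, 20160]) (card_psl34 hF) (by norm_num) (by norm_num) (by norm_num)
    (by decide +kernel) (by decide +kernel) (by decide +kernel)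
    (H809.SelfCent.psl_selfcent 3 4 5 (by simp) F hF) R hR).resolve_right (not_mem_of_isEmpty (by decide +kernel))

theorem pgap_psl72 (F : Type) [Field F] [Fintype F] (hF : Fintype.card F = 2)
    (R : Subgroup (Matrix.ProjectiveSpecialLinearGroup (Fin 7) F)) (hR : R ≠ ⊤) : PGap _ R := by
  haveI : IsSimpleGroup (Matrix.ProjectiveSpecialLinearGroup (Fin 7) F) := S0249.result 7 (by norm_num)
  exact (pgap_of_ex OT hS (p := 127) (M := 7) (l := [(2, 21), (3, 4), (5, 1), (7, 2), (31, 1), (127, 1)])
    (ps := [2, 3, 5, 7, 31, 127])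
    (tbl := [60, 168, 360, 504, 2520, 6048, 14880, 20160, 25920, 181440, 1024128, 1451520, 9999360, 20158709760,
      163849992929280]) (card_psl72 hF) (by norm_num) (by norm_num) (by norm_num)
    (by decide +kernel) (by decide +kernel) (by decide +kernel)
    (H809.SelfCent.psl_irred hF (by norm_num) (by norm_num) (by norm_num) (by norm_num) (by norm_num) (by norm_num)
      (by norm_num)) R hR).resolve_right (not_mem_of_isEmpty (by decide +kernel))

theorem pgap_o8m (F : Type) [Field F] [Fintype F] (hF : Fintype.card F = 2) (a b : F)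
    (hab : ∀ z₁ z₂ : F, z₁ ^ 2 + a * z₁ * z₂ + b * z₂ ^ 2 = 0 → z₁ = 0 ∧ z₂ = 0)
    (R : Subgroup (POmega F (quadFormMinus 3 F a b))) (hR : R ≠ ⊤) : PGap _ R := by
  haveI : IsSimpleGroup (POmega F (quadFormMinus 3 F a b)) := S0297.result 4 le_rfl a b hab
  haveI : Finite (POmega F (quadFormMinus 3 F a b)) :=
    Nat.finite_of_card_ne_zero (by rw [card_o8m hF a b hab]; norm_num)
  exact (pgap_of_ex OT hS (p := 17) (M := 4) (l := [(2, 12), (3, 4), (5, 1), (7, 1), (17, 1)]) (ps := [2, 3, 5, 7, 17])
    (tbl := [60, 168, 360, 504, 2448, 2520, 4080, 6048, 20160, 25920, 181440, 1451520, 197406720])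
    (card_o8m hF a b hab) (by norm_num) (by norm_num) (by norm_num)
    (by decide +kernel) (by decide +kernel) (by decide +kernel)
    (H732.SelfCent.omega8minus_selfcent hF a b hab) R hR).resolve_right (not_mem_of_isEmpty (by decide +kernel))

theorem pgap_o10p (F : Type) [Field F] [Fintype F] (hF : Fintype.card F = 2)
    (R : Subgroup (POmega F (quadFormPlus 5 F))) (hR : R ≠ ⊤) : PGap _ R := by
  haveI : IsSimpleGroup (POmega F (quadFormPlus 5 F)) := S0296.result 5 (by norm_num)
  haveI : Finite (POmega F (quadFormPlus 5 F)) :=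
    Nat.finite_of_card_ne_zero (by rw [card_o10p hF]; norm_num)
  exact (pgap_of_ex OT hS (p := 31) (M := 5) (l := [(2, 20), (3, 5), (5, 2), (7, 1), (17, 1), (31, 1)])
    (ps := [2, 3, 5, 7, 17, 31])
    (tbl := [60, 168, 360, 504, 2448, 2520, 4080, 6048, 14880, 20160, 25920, 181440, 604800, 979200, 1451520, 1814400,
      9999360, 174182400, 197406720, 987033600, 47377612800, 23499295948800])
    (card_o10p hF) (by norm_num) (by norm_num) (by norm_num)
    (by decide +kernel) (by decide +kernel) (by decide +kernel)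
    (H732.SelfCent.omega10plus_selfcent hF) R hR).resolve_right (not_mem_of_isEmpty (by decide +kernel))

theorem pgap_psl44 (F : Type) [Field F] [Fintype F] (hF : Fintype.card F = 4)
    (R : Subgroup (Matrix.ProjectiveSpecialLinearGroup (Fin 4) F)) (hR : R ≠ ⊤) : PGap _ R := by
  haveI : IsSimpleGroup (Matrix.ProjectiveSpecialLinearGroup (Fin 4) F) := S0249.result 4 (by norm_num)
  have hD : Data (Matrix.ProjectiveSpecialLinearGroup (Fin 4) F) [(7, 9, 54)] [2, 3, 5, 7, 17]
      [60, 168, 360, 504, 2448, 2520, 4080, 6048, 20160, 25920, 181440, 604800, 979200, 1451520, 1814400, 197406720,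
        987033600] := by
    refine mk_data OT hS (l := [(2, 12), (3, 4), (5, 2), (7, 1), (17, 1)]) (card_psl44 hF) (by decide +kernel) ?_
    intro x hx
    rw [List.mem_singleton] at hx
    subst hx
    exact entry_of_sub (by norm_num) (card_psl44 hF) (by norm_num) (by norm_num) (by norm_num) (by decide +kernel)
      (cent_psl44 hF)
  rcases pgap_sub (l := [(2, 12), (3, 4), (5, 2), (7, 1), (17, 1)]) (card_psl44 hF) (by decide +kernel)
    (by decide +kernel) hD R hR with h | h
  · exact h
  · exfalso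
    have h1 : sub 987033600 [(2, 12), (3, 4), (5, 2), (7, 1), (17, 1)] [(7, 9, 54)] [2, 3, 5, 7, 17]
        [60, 168, 360, 504, 2448, 2520, 4080, 6048, 20160, 25920, 181440, 604800, 979200, 1451520, 1814400, 197406720,
          987033600] = [197406720] := by decide +kernel
    rw [h1, List.mem_singleton] at h
    have h2 := R.card_mul_index
    rw [h, card_psl44 hF] at h2
    have h3 : R.index = 5 := by omega
    have h4 := card_dvd_factorial R hR
    rw [h3, card_psl44 hF] at h4
    exact absurd h4 (by decide)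

/-- `L₆(2)`: only the orders of `L₅(2)` and `2⁵ : L₅(2)` -/
theorem pgap_psl62 (F : Type) [Field F] [Fintype F] (hF : Fintype.card F = 2)
    (R : Subgroup (Matrix.ProjectiveSpecialLinearGroup (Fin 6) F)) (hR : R ≠ ⊤) :
    PGap _ R ∨ Nat.card R = 9999360 ∨ Nat.card R = 319979520 := by
  haveI : IsSimpleGroup (Matrix.ProjectiveSpecialLinearGroup (Fin 6) F) := S0249.result 6 (by norm_num)
  have h := pgap_of_ex OT hS (p := 31) (M := 5) (l := [(2, 15), (3, 4), (5, 1), (7, 2), (31, 1)]) (ps := [2, 3, 5, 7, 31])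
    (tbl := [60, 168, 360, 504, 2520, 6048, 14880, 20160, 25920, 181440, 1451520, 9999360, 20158709760])
    (card_psl62 hF) (by norm_num) (by norm_num) (by norm_num)
    (by decide +kernel) (by decide +kernel) (by decide +kernel)
    (H809.SelfCent.psl_selfcent 6 2 31 (by simp) F hF) R hR
  have h1 : (sub 20158709760 [(2, 15), (3, 4), (5, 1), (7, 2), (31, 1)] [(31, 1, 5)] [2, 3, 5, 7, 31]
      [60, 168, 360, 504, 2520, 6048, 14880, 20160, 25920, 181440, 1451520, 9999360, 20158709760]).all
        (fun h => h == 9999360 || h == 319979520) = true := by decide +kernel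
  rw [List.all_eq_true] at h1
  refine h.imp_right fun h2 => ?_
  have h3 := h1 _ h2
  rwa [Bool.or_eq_true, beq_iff_eq, beq_iff_eq] at h3

/-- `Sp₈(2)`: only the orders of `Ω⁻₈(2)` and `Ω⁻₈(2).2` -/
theorem pgap_sp82 (F : Type) [Field F] [Fintype F] (hF : Fintype.card F = 2)
    (R : Subgroup (PSp 4 F)) (hR : R ≠ ⊤) :
    PGap _ R ∨ Nat.card R = 197406720 ∨ Nat.card R = 394813440 := by
  have hc : Nat.card (PSp 4 F) = 47377612800 := by
    rw [H732.SelfCent.card_psp_eight hF]
    norm_num
  haveI : IsSimpleGroup (PSp 4 F) := S0270.result 4 (by norm_num) (by omega)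
  have hself : ∃ P : Subgroup (PSp 4 F), Nat.card P = 17 ∧ centralizer (P : Set (PSp 4 F)) = P :=
    H732.SelfCent.selfcent_of_orders (by norm_num) (by rw [hc]; norm_num) (by rw [hc]; norm_num)
      (fun s hs hsd hne g => H732.SelfCent.psp_eight_orders hF hs hsd hne g)
  have h := pgap_of_ex OT hS (p := 17) (M := 8) (l := [(2, 16), (3, 5), (5, 2), (7, 1), (17, 1)])
    (ps := [2, 3, 5, 7, 17])
    (tbl := [60, 168, 360, 504, 2448, 2520, 4080, 6048, 20160, 25920, 181440, 604800, 979200, 1451520, 1814400,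
      174182400, 197406720, 987033600, 47377612800])
    hc (by norm_num) (by norm_num) (by norm_num) (by decide +kernel) (by decide +kernel) (by decide +kernel)
    hself R hR
  have h1 : (sub 47377612800 [(2, 16), (3, 5), (5, 2), (7, 1), (17, 1)] [(17, 1, 8)] [2, 3, 5, 7, 17]
      [60, 168, 360, 504, 2448, 2520, 4080, 6048, 20160, 25920, 181440, 604800, 979200, 1451520, 1814400, 174182400,
        197406720, 987033600, 47377612800]).all (fun h => h == 197406720 || h == 394813440) = true := by
    decide +kernel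
  rw [List.all_eq_true] at h1
  refine h.imp_right fun h2 => ?_
  have h3 := h1 _ h2
  rwa [Bool.or_eq_true, beq_iff_eq, beq_iff_eq] at h3

/-- `Ω⁺₈(2)` -/
theorem pgap_o8p (F : Type) [Field F] [Fintype F] (hF : Fintype.card F = 2)
    (R : Subgroup (POmega F (quadFormPlus 4 F))) (hR : R ≠ ⊤) :
    PGap _ R ∨ Nat.card R ∈ [2520, 5040, 20160, 40320, 161280, 181440, 322560, 604800, 1290240, 1451520, 4838400,
      11612160] := by
  haveI : IsSimpleGroup (POmega F (quadFormPlus 4 F)) := S0296.result 4 le_rfl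
  have hc : Nat.card (POmega F (quadFormPlus 4 F)) = 174182400 := by
    rw [← Nat.card_congr (pomCongr hF).toEquiv]; exact O8.card_t8
  haveI : Finite (POmega F (quadFormPlus 4 F)) := Nat.finite_of_card_ne_zero (by rw [hc]; norm_num)
  have h := pgap_of_ex OT hS (p := 7) (M := 6) (l := [(2, 12), (3, 5), (5, 2), (7, 1)])
    (ps := [2, 3, 5, 7])
    (tbl := [60, 168, 360, 504, 2520, 6048, 20160, 25920, 181440, 604800, 1451520, 1814400, 174182400])
    hc (by norm_num) (by norm_num) (by norm_num) (by decide +kernel) (by decide +kernel) (by decide +kernel)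
    (H732.SelfCent.omega8plus_selfcent hF) R hR
  have h1 : (sub 174182400 [(2, 12), (3, 5), (5, 2), (7, 1)] [(7, 1, 6)] [2, 3, 5, 7]
      [60, 168, 360, 504, 2520, 6048, 20160, 25920, 181440, 604800, 1451520, 1814400, 174182400]).all
        (fun h => [2520, 5040, 20160, 40320, 161280, 181440, 322560, 604800, 1290240, 1451520, 4838400,
          11612160].contains h) = true := by decide +kernel
  rw [List.all_eq_true] at h1
  refine h.imp_right fun h2 => ?_
  exact List.contains_iff_mem.1 (h1 _ h2)

end Cfsg.Agent.H503.El
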