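import Cfsg.Agent.H970.StabData
import Cfsg.Agent.H278.ElDefs

/-!
# TEAM ELUSIVE: the order sieve for small groups (helper503)

`mem_sub` : a proper subgroup `R` of a simple group `T` whose order is divisible by all primes dividing `|T|` has its
order in an explicit list computed from the centralizers of elements of prime order (`H970.StabNum`).
-/

set_option autoImplicit false

namespace Cfsg.Agent.H503.El

open Subgroup Cfsg.Agent.H970.StabNum Cfsg.Agent.H278.El Cfsg.Agent.H396 Cfsg.Agent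

universe u

/-- numerical checks on the data (copy of `TwoSpor.okData`) -/
def okData (N : ℕ) (data : List (ℕ × ℕ × ℕ)) : Bool :=
  Nat.blt N (2 ^ 80) && data.all fun x => N % (x.1 * x.1) != 0 && (Nat.blt 0 x.2.1 && (Nat.blt x.2.1 256 &&
    Nat.blt 0 x.2.2))

/-- all checks -/
def allOk (N : ℕ) (l : List (ℕ × ℕ)) (data : List (ℕ × ℕ × ℕ)) (ps tbl : List ℕ) : Bool :=
  OrdDiv.valid l N && (okData N data && (data.all (fun x => OrdDiv.isPrimeB x.1) && (ps.all OrdDiv.isPrimeB &&
    (OrdDiv.cands l N).all fun g => tbl.contains (OrdDiv.ordN g))))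

theorem mk_data {T : Type u} [Group T] [Finite T] (OT : OrdDiv.OrderTable.{u})
    (hS : ∀ (X : Type u) [Group X] [Finite X] [IsSimpleGroup X], Cfsg.IsKnownSimple' X)
    {N : ℕ} {l : List (ℕ × ℕ)} {data : List (ℕ × ℕ × ℕ)} {ps tbl : List ℕ} (hN : Nat.card T = N)
    (hok : allOk N l data ps tbl = true)
    (hc : ∀ x ∈ data, ∀ P : Subgroup T, Nat.card P = x.1 →
      Nat.card (centralizer (P : Set T)) ∣ x.1 * x.2.1 ∧ Nat.card (normalizer (P : Set T)) ∣ x.1 * x.2.2) :
    Data T data ps tbl := by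
  subst hN
  unfold allOk okData at hok
  simp only [Bool.and_eq_true] at hok
  obtain ⟨hv, ⟨hd0, hd⟩, hp, hps, ht⟩ := hok
  rw [List.all_eq_true] at hp hps hd
  rw [Nat.blt_eq] at hd0
  refine ⟨inferInstance, hd0, fun x hx => ?_, hc, fun r hr => OrdDiv.prime_of (hps r hr),
    fun K _ _ hK hna hd' => mem_tbl OT hS hv ht K hK hna hd'⟩
  have h1 := hd x hx
  simp only [Bool.and_eq_true, Nat.blt_eq] at h1
  obtain ⟨h2, h3, h4, h5⟩ := h1
  refine ⟨OrdDiv.prime_of (hp x hx), fun h => ?_, h3, h4, h5⟩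
  rw [pow_two] at h
  have h6 := Nat.mod_eq_zero_of_dvd h
  rw [h6] at h2
  exact absurd h2 (by decide)

/-- the possible orders of the proper subgroups with all primes -/
def sub (N : ℕ) (l : List (ℕ × ℕ)) (data : List (ℕ × ℕ × ℕ)) (ps tbl : List ℕ) : List ℕ :=
  (divs l).filter fun h => (l.all fun x => h % x.1 == 0) && (Nat.blt h N && feasAll data ps tbl h)

theorem mem_sub {T : Type u} [Group T] [Finite T] {N : ℕ} {l : List (ℕ × ℕ)} {data : List (ℕ × ℕ × ℕ)}
    {ps tbl : List ℕ} (hN : Nat.card T = N) (hv : OrdDiv.valid l N = true)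
    (hl : (l.all fun x => N % x.1 == 0) = true) (D : Data T data ps tbl) (R : Subgroup T) (hR : R ≠ ⊤) :
    Der T R ∨ Nat.card R ∈ sub N l data ps tbl := by
  subst hN
  by_cases h : ∀ x ∈ l, Nat.card R % x.1 = 0
  · right
    unfold sub
    rw [List.mem_filter]
    refine ⟨mem_divs_of_valid hv (Subgroup.card_subgroup_dvd_card R), bandI ?_ (bandI ?_ (D.feas R))⟩
    · rw [List.all_eq_true]
      intro x hx
      exact beqI (h x hx)
    · rw [Nat.blt_eq]
      refine lt_of_le_of_ne (Nat.le_of_dvd Nat.card_pos (Subgroup.card_subgroup_dvd_card R)) fun h1 => hR ?_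
      exact Subgroup.eq_top_of_card_eq R h1
  · left
    push Not at h
    obtain ⟨x, hx, h1⟩ := h
    rw [List.all_eq_true] at hl
    have h2 := hl x hx
    rw [beq_iff_eq] at h2
    exact der_of_prime (OrdDiv.valid_prime hv x hx) (Nat.dvd_of_mod_eq_zero h2)
      (fun h3 => h1 (Nat.mod_eq_zero_of_dvd h3))

/-- all proper subgroups miss a class of elements of prime order -/
theorem der_of_nil {T : Type u} [Group T] [Finite T] (OT : OrdDiv.OrderTable.{u})
    (hS : ∀ (X : Type u) [Group X] [Finite X] [IsSimpleGroup X], Cfsg.IsKnownSimple' X)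
    {N : ℕ} {l : List (ℕ × ℕ)} {data : List (ℕ × ℕ × ℕ)} {ps tbl : List ℕ} (hN : Nat.card T = N)
    (hok : allOk N l data ps tbl = true) (hl : (l.all fun x => N % x.1 == 0) = true)
    (hs : (sub N l data ps tbl).isEmpty = true)
    (hc : ∀ x ∈ data, ∀ P : Subgroup T, Nat.card P = x.1 →
      Nat.card (centralizer (P : Set T)) ∣ x.1 * x.2.1 ∧ Nat.card (normalizer (P : Set T)) ∣ x.1 * x.2.2)
    (R : Subgroup T) (hR : R ≠ ⊤) : Der T R := by
  have hv : OrdDiv.valid l N = true := by
    unfold allOk at hok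
    rw [Bool.and_eq_true] at hok
    exact hok.1
  rcases mem_sub hN hv hl (mk_data OT hS hN hok hc) R hR with h | h
  · exact h
  · rw [List.isEmpty_iff] at hs
    rw [hs] at h
    exact absurd h List.not_mem_nil

/-- the centralizers from one self-centralizing subgroup -/
theorem cent_of_ex {T : Type u} [Group T] [Finite T] {p : ℕ} [Fact p.Prime] (hp2 : ¬ p ^ 2 ∣ Nat.card T)
    (h : ∃ R : Subgroup T, Nat.card R = p ∧ centralizer (R : Set T) = R) (S : Sylow p T) :
    centralizer ((S : Subgroup T) : Set T) = (S : Subgroup T) := by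
  obtain ⟨R, hR, hc⟩ := h
  obtain ⟨Q, hQ⟩ := exists_sylow_of_card hp2 hR
  obtain ⟨g, hg⟩ := MulAction.exists_smul_eq T Q S
  have h1 : (S : Subgroup T) = (Q : Subgroup T).map (MulAut.conj g).toMonoidHom := by
    rw [← hg]; rfl
  rw [h1, hQ]
  ext x
  constructor
  · intro hx
    have h2 : g⁻¹ * x * g ∈ centralizer (R : Set T) := by
      rw [mem_centralizer_iff]
      intro y hy
      have h3 := mem_centralizer_iff.1 hx (g * y * g⁻¹) ⟨y, hy, rfl⟩
      calc y * (g⁻¹ * x * g) = g⁻¹ * (g * y * g⁻¹ * x) * g := by group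
        _ = g⁻¹ * x * g * y := by rw [h3]; group
    rw [hc] at h2
    exact ⟨_, h2, by show g * (g⁻¹ * x * g) * g⁻¹ = x; group⟩
  · rintro ⟨y, hy, rfl⟩
    rw [mem_centralizer_iff]
    rintro _ ⟨z, hz, rfl⟩
    have h2 : z * y = y * z := by
      have h3 : (y : T) ∈ centralizer (R : Set T) := by rw [hc]; exact hy
      exact mem_centralizer_iff.1 h3 z hz
    show g * z * g⁻¹ * (g * y * g⁻¹) = g * y * g⁻¹ * (g * z * g⁻¹)
    calc g * z * g⁻¹ * (g * y * g⁻¹) = g * (z * y) * g⁻¹ := by group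
      _ = g * y * g⁻¹ * (g * z * g⁻¹) := by rw [h2]; group

/-- the data for a self-centralizing subgroup of prime order -/
theorem entry_of_ex {T : Type u} [Group T] [Finite T] [IsSimpleGroup T] {N p M : ℕ} (hp : p.Prime)
    (hN : Nat.card T = N) (hp2 : ¬ p ^ 2 ∣ N) (hne : N ≠ p) (hM : okM N p 1 M = true)
    (h : ∃ R : Subgroup T, Nat.card R = p ∧ centralizer (R : Set T) = R) :
    ∀ P : Subgroup T, Nat.card P = p → Nat.card (centralizer (P : Set T)) ∣ p * 1 ∧
      Nat.card (normalizer (P : Set T)) ∣ p * M := by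
  subst hN
  exact entry_of_self hp rfl hp2 hne hM (cent_of_ex hp2 h)

/-- one self-centralizing subgroup of prime order suffices -/
theorem der_of_ex {T : Type u} [Group T] [Finite T] [IsSimpleGroup T] (OT : OrdDiv.OrderTable.{u})
    (hS : ∀ (X : Type u) [Group X] [Finite X] [IsSimpleGroup X], Cfsg.IsKnownSimple' X)
    {N p M : ℕ} {l : List (ℕ × ℕ)} {ps tbl : List ℕ} (hN : Nat.card T = N) (hp : p.Prime)
    (hp2 : ¬ p ^ 2 ∣ N) (hne : N ≠ p) (hM : okM N p 1 M = true)
    (hok : allOk N l [(p, 1, M)] ps tbl = true) (hl : (l.all fun x => N % x.1 == 0) = true)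
    (hs : (sub N l [(p, 1, M)] ps tbl).isEmpty = true)
    (h : ∃ R : Subgroup T, Nat.card R = p ∧ centralizer (R : Set T) = R)
    (R : Subgroup T) (hR : R ≠ ⊤) : Der T R := by
  refine der_of_nil OT hS hN hok hl hs (fun x hx => ?_) R hR
  rw [List.mem_singleton] at hx
  subst hx
  exact entry_of_ex hp hN hp2 hne hM h

end Cfsg.Agent.H503.El
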