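import Cfsg.Agent.H503.El.Fix

/-!
# TEAM ELUSIVE: `L₆(2)`, the `2`-subgroup of a vector stabilizer (helper503)
-/

set_option autoImplicit false

namespace Cfsg.Agent.H503.El.Fix

open Subgroup

universe u

theorem dvd64 {n : ℕ} (h : n ∣ 64) (h2 : n % 31 = 2) : n = 2 ∨ n = 64 := by
  obtain ⟨j, hj, rfl⟩ := (Nat.dvd_prime_pow Nat.prime_two (m := 6)).1 (by simpa using h)
  interval_cases j <;> simp_all

theorem core2 {S V : Type*} [Group S] [Finite S] [CommGroup V] [Finite V] [MulDistribMulAction S V]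
    (hV : Nat.card V = 64) (hb : ∃ b : Fin 6 → V, ∀ g : S, (∀ i, g • b i = b i) → g = 1) {x : S}
    (hx31 : orderOf x = 31) {v0 : V} (hv0 : v0 ≠ 1) (hv2 : v0 * v0 = 1)
    (hF : ∀ v : V, x • v = v → v = 1 ∨ v = v0) (hxv : x • v0 = v0) (A : Subgroup S) {a : ℕ}
    (hA : Nat.card A = 2 ^ a) (hAv : ∀ g ∈ A, g • v0 = v0) (hAx : ∀ g ∈ A, x⁻¹ * g * x ∈ A) : 2 ^ a ≤ 64 := by
  classical
  have hinv : v0⁻¹ = v0 := inv_eq_of_mul_eq_one_left hv2
  let W : Subgroup V :=
    { carrier := {v | ∀ g ∈ A, g • v = v ∨ g • v = v * v0}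
      one_mem' := fun g _ => Or.inl (smul_one g)
      mul_mem' := by
        intro v w hv hw g hg
        rw [smul_mul']
        rcases hv g hg with h | h <;> rcases hw g hg with h' | h' <;> rw [h, h']
        · exact Or.inl rfl
        · exact Or.inr (mul_assoc _ _ _).symm
        · exact Or.inr (by rw [mul_assoc, mul_comm v0 w, mul_assoc])
        · refine Or.inl ?_
          calc v * v0 * (w * v0) = v * w * (v0 * v0) := by
                rw [mul_assoc, mul_assoc, mul_left_comm v0 w v0]
            _ = v * w := by rw [hv2, mul_one]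
      inv_mem' := by
        intro v hv g hg
        rw [smul_inv']
        rcases hv g hg with h | h <;> rw [h]
        · exact Or.inl rfl
        · refine Or.inr ?_
          rw [mul_inv, hinv] }
  have hmemW : ∀ v, v ∈ W ↔ ∀ g ∈ A, g • v = v ∨ g • v = v * v0 := fun v => Iff.rfl
  have h0W : v0 ∈ W := (hmemW _).2 fun g hg => Or.inl (hAv g hg)
  have hxW : ∀ v ∈ (W : Set V), x • v ∈ (W : Set V) := by
    intro v hv g hg
    have h1 : g • x • v = x • ((x⁻¹ * g * x) • v) := by
      rw [← mul_smul, ← mul_smul]; congr 1; group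
    rw [h1]
    rcases hv _ (hAx g hg) with h | h <;> rw [h]
    · exact Or.inl rfl
    · exact Or.inr (by rw [smul_mul', hxv])
  -- a further element of `W`
  obtain ⟨w, hw, hw1, hw2⟩ : ∃ w ∈ W, w ≠ 1 ∧ w ≠ v0 := by
    set N := zpowers v0 with hN
    have hmemN : ∀ v, v ∈ N ↔ v = 1 ∨ v = v0 := by
      intro v
      constructor
      · rintro ⟨k, rfl⟩
        rcases Int.even_or_odd k with ⟨m, hm⟩ | ⟨m, hm⟩
        · left
          show v0 ^ k = 1
          rw [hm, zpow_add, ← mul_zpow, hv2, one_zpow]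
        · right
          show v0 ^ k = v0
          rw [hm, zpow_add, zpow_mul, zpow_one, show v0 ^ (2 : ℤ) = v0 * v0 from zpow_two v0, hv2, one_zpow, one_mul]
      · rintro (rfl | rfl)
        · exact one_mem _
        · exact mem_zpowers _
    have hAN : ∀ (g : A) (v : V), v ∈ N → g • v = v := by
      intro g v hv
      rcases (hmemN v).1 hv with rfl | rfl
      · exact smul_one _
      · exact hAv g.1 g.2
    haveI : MulAction.QuotientAction A N := by
      refine ⟨fun b a a' h => ?_⟩
      rw [← smul_inv', ← smul_mul', hAN b _ h]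
      exact h
    have hcN : Nat.card N = 2 := by
      rw [Nat.card_zpowers]
      exact orderOf_eq_prime (by rw [pow_two]; exact hv2) hv0
    have hcQ : Nat.card (V ⧸ N) = 32 := by
      have := Subgroup.card_eq_card_quotient_mul_card_subgroup N
      rw [hV, hcN] at this
      omega
    have h2 : IsPGroup 2 A := IsPGroup.of_card hA
    have := h2.card_modEq_card_fixedPoints (V ⧸ N)
    rw [hcQ] at this
    have h1m : (QuotientGroup.mk (1 : V) : V ⧸ N) ∈ MulAction.fixedPoints A (V ⧸ N) := by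
      intro g
      show ((g • (1 : V) : V) : V ⧸ N) = _
      rw [smul_one]
    have hne : Nat.card (MulAction.fixedPoints A (V ⧸ N)) ≠ 1 := by
      intro h
      rw [h] at this
      exact absurd this (by decide)
    obtain ⟨⟨q, hq⟩, hq1⟩ : ∃ q : MulAction.fixedPoints A (V ⧸ N), q ≠ ⟨_, h1m⟩ := by
      by_contra hcon
      push Not at hcon
      apply hne
      rw [Nat.card_eq_one_iff_unique]
      exact ⟨⟨fun a b => (hcon a).trans (hcon b).symm⟩, ⟨⟨_, h1m⟩⟩⟩
    obtain ⟨w, rfl⟩ := QuotientGroup.mk_surjective q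
    have hwN : w ∉ N := by
      intro h
      apply hq1
      apply Subtype.ext
      show (w : V ⧸ N) = ((1 : V) : V ⧸ N)
      rw [QuotientGroup.eq, mul_one]
      exact inv_mem h
    refine ⟨w, ?_, fun h => hwN ((hmemN w).2 (Or.inl h)), fun h => hwN ((hmemN w).2 (Or.inr h))⟩
    rw [hmemW]
    intro g hg
    have h3 : ((g • w : V) : V ⧸ N) = (w : V ⧸ N) := hq ⟨g, hg⟩
    rw [eq_comm, QuotientGroup.eq] at h3
    rcases (hmemN _).1 h3 with h | h
    · left
      exact (inv_mul_eq_one.1 h).symm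
    · right
      rw [← h, mul_inv_cancel_left]
  -- `W` is everything
  have hWtop : W = ⊤ := by
    have h1 := card_mod (p := 31) (by norm_num) hx31 (W : Set V) hxW
    have h2 : Nat.card {v : V // v ∈ (W : Set V) ∧ x • v = v} = 2 := by
      rw [Nat.card_eq_two_iff' (⟨1, W.one_mem, smul_one x⟩ : {v : V // v ∈ (W : Set V) ∧ x • v = v})]
      refine ⟨⟨v0, h0W, hxv⟩, fun h => hv0 (congrArg Subtype.val h), ?_⟩
      rintro ⟨v, hv, hv'⟩ hne
      rcases hF v hv' with h | h
      · exact absurd (Subtype.ext h) hne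
      · exact Subtype.ext h
    rw [h2] at h1
    have h3 : Nat.card (W : Set V) = Nat.card W := rfl
    rw [h3] at h1
    have h4 : Nat.card W ∣ 64 := hV ▸ Subgroup.card_subgroup_dvd_card W
    rcases dvd64 h4 h1 with h5 | h5
    · exfalso
      rw [Nat.card_eq_two_iff' (⟨1, W.one_mem⟩ : W)] at h5
      obtain ⟨y, hy, hy'⟩ := h5
      have h6 := hy' ⟨v0, h0W⟩ (fun h => hv0 (congrArg Subtype.val h))
      have h7 := hy' ⟨w, hw⟩ (fun h => hw1 (congrArg Subtype.val h))
      exact hw2 (congrArg Subtype.val (h7.trans h6.symm))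
    · exact Subgroup.eq_top_of_card_eq W (by rw [h5, hV])
  have hall : ∀ g ∈ A, ∀ v : V, g • v = v ∨ g • v = v * v0 := by
    intro g hg v
    have : v ∈ W := by rw [hWtop]; trivial
    exact this g hg
  obtain ⟨b, hb⟩ := hb
  have hinj : Function.Injective (fun (g : A) (i : Fin 6) => decide (g.1 • b i = b i)) := by
    intro g h hgh
    have h1 : ∀ i, g.1 • b i = h.1 • b i := by
      intro i
      have h2 : decide (g.1 • b i = b i) = decide (h.1 • b i = b i) := congrFun hgh i
      rw [decide_eq_decide] at h2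
      rcases hall g.1 g.2 (b i) with h3 | h3
      · rw [h3, h2.1 h3]
      · rcases hall h.1 h.2 (b i) with h4 | h4
        · rw [h4, h2.2 h4]
        · rw [h3, h4]
    have h2 : g.1⁻¹ * h.1 = 1 := by
      apply hb
      intro i
      rw [mul_smul, ← h1 i, inv_smul_smul]
    exact Subtype.ext (inv_mul_eq_one.1 h2)
  have h1 := Nat.card_le_card_of_injective _ hinj
  rw [hA] at h1
  simpa using h1

/-- centralizers and normalizers under injective homomorphisms -/
theorem card_cent_map {H S : Type*} [Group H] [Group S] {ι : H →* S} (hι : Function.Injective ι) (P : Subgroup H) :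
    Nat.card (centralizer (P : Set H)) ∣ Nat.card (centralizer ((P.map ι : Subgroup S) : Set S)) := by
  rw [Nat.card_congr ((centralizer (P : Set H)).equivMapOfInjective ι hι).toEquiv]
  apply Subgroup.card_dvd_of_le
  rintro _ ⟨y, hy, rfl⟩
  rw [mem_centralizer_iff]
  rintro _ ⟨z, hz, rfl⟩
  have h2 : z * y = y * z := mem_centralizer_iff.1 hy z hz
  rw [← map_mul, h2, map_mul]

theorem card_norm_map {H S : Type*} [Group H] [Group S] {ι : H →* S} (hι : Function.Injective ι) (P : Subgroup H) :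
    Nat.card (normalizer (P : Set H)) ∣ Nat.card (normalizer ((P.map ι : Subgroup S) : Set S)) := by
  rw [Nat.card_congr ((normalizer (P : Set H)).equivMapOfInjective ι hι).toEquiv]
  apply Subgroup.card_dvd_of_le
  rintro _ ⟨y, hy, rfl⟩
  have hy' : ∀ h, h ∈ (P : Set H) ↔ y * h * y⁻¹ ∈ (P : Set H) := Subgroup.mem_normalizer_iff.1 hy
  rw [mem_normalizer_iff]
  intro w
  constructor
  · rintro ⟨z, hz, rfl⟩
    exact ⟨y * z * y⁻¹, (hy' z).1 hz, by simp⟩
  · rintro ⟨z, hz, hzw⟩
    refine ⟨y⁻¹ * z * y, (hy' _).2 (by have : y * (y⁻¹ * z * y) * y⁻¹ = z := by group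
                                       rw [this]; exact hz), ?_⟩
    rw [map_mul, map_mul, map_inv, hzw]
    group

/-- **The main contradiction.** -/
theorem core {S : Type u} [Group S] [Finite S] {V : Type*} [CommGroup V] [Finite V] [MulDistribMulAction S V]
    (hV : Nat.card V = 64) (hb : ∃ b : Fin 6 → V, ∀ g : S, (∀ i, g • b i = b i) → g = 1)
    (hv2 : ∀ v : V, v * v = 1) (R : Subgroup S) {x t : S} (hx : x ∈ R) (hx31 : orderOf x = 31) (ht : t ∈ R)
    (ht3 : orderOf t = 3) (htf : ∀ v : V, t • v = v → v = 1)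
    (hCN : ∀ P : Subgroup S, Nat.card P = 31 → Nat.card (centralizer (P : Set S)) ∣ 31 ∧
      Nat.card (normalizer (P : Set S)) ∣ 155) {a : ℕ} (ha : 7 ≤ a) (hR : Nat.card R = 63 * (2 ^ a * 155))
    (hna : ∀ (K : Type u) [Group K] [Finite K], IsSimpleGroup K → (¬ ∀ x y : K, x * y = y * x) →
      Nat.card K ∣ 2 ^ a * 155 → False) : False := by
  classical
  -- the fixed vector of `x`
  let F : Subgroup V :=
    { carrier := {v | x • v = v}
      one_mem' := smul_one x
      mul_mem' := by
        intro v w hv hw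
        show x • (v * w) = v * w
        rw [smul_mul', show x • v = v from hv, show x • w = w from hw]
      inv_mem' := by
        intro v hv
        show x • v⁻¹ = v⁻¹
        rw [smul_inv', show x • v = v from hv] }
  have hcF : Nat.card F = 2 := by
    have h1 := card_mod (p := 31) (by norm_num) hx31 (Set.univ : Set V) (fun _ _ => trivial)
    rw [Nat.card_coe_set_eq, Set.ncard_univ, hV] at h1
    have h2 : Nat.card {v : V // v ∈ (Set.univ : Set V) ∧ x • v = v} = Nat.card F :=
      Nat.card_congr ⟨fun v => ⟨v.1, v.2.2⟩, fun v => ⟨v.1, trivial, v.2⟩, fun _ => rfl, fun _ => rfl⟩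
    rw [h2] at h1
    have h4 : Nat.card F ∣ 64 := hV ▸ Subgroup.card_subgroup_dvd_card F
    rcases dvd64 h4 h1.symm with h5 | h5
    · exact h5
    · exfalso
      have h6 : F = ⊤ := Subgroup.eq_top_of_card_eq F (by rw [h5, hV])
      obtain ⟨b, hb⟩ := hb
      have h7 : x = 1 := hb x fun i => by
        have : b i ∈ F := by rw [h6]; trivial
        exact this
      rw [h7, orderOf_one] at hx31
      omega
  obtain ⟨⟨v0, hxv⟩, hv0, huniq⟩ := (Nat.card_eq_two_iff' (1 : F)).1 hcF
  have hv0 : v0 ≠ 1 := fun h => hv0 (Subtype.ext h)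
  have hxv : x • v0 = v0 := hxv
  have hF : ∀ v : V, x • v = v → v = 1 ∨ v = v0 := by
    intro v hv
    by_cases h : v = 1
    · exact Or.inl h
    · exact Or.inr (congrArg Subtype.val (huniq ⟨v, hv⟩ fun h' => h (congrArg Subtype.val h')))
  -- the orbit
  set s : Set V := MulAction.orbit R v0 with hs
  have hinvs : ∀ g ∈ R, ∀ v ∈ s, g • v ∈ s := by
    rintro g hg _ ⟨h, rfl⟩
    exact ⟨⟨g, hg⟩ * h, mul_smul _ _ _⟩
  have h1s : ∀ v ∈ s, v ≠ 1 := by
    rintro _ ⟨h, rfl⟩ h1
    apply hv0
    have h1' : (h : S) • v0 = 1 := h1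
    rw [← inv_smul_smul (h : S) v0, h1', smul_one]
  have h31 := card_mod (p := 31) (by norm_num) hx31 s (hinvs x hx)
  have h3 := card_mod (p := 3) (by norm_num) ht3 s (hinvs t ht)
  have e31 : Nat.card {v : V // v ∈ s ∧ x • v = v} = 1 := by
    rw [Nat.card_eq_one_iff_unique]
    refine ⟨⟨?_⟩, ⟨⟨v0, MulAction.mem_orbit_self _, hxv⟩⟩⟩
    rintro ⟨v, hv, hv'⟩ ⟨w, hw, hw'⟩
    apply Subtype.ext
    show v = w
    rw [(hF v hv').resolve_left (h1s v hv), (hF w hw').resolve_left (h1s w hw)]
  have e3 : Nat.card {v : V // v ∈ s ∧ t • v = v} = 0 := by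
    rw [Nat.card_eq_zero]
    left
    refine ⟨?_⟩
    rintro ⟨v, hv, hv'⟩
    exact h1s v hv (htf v hv')
  rw [e31] at h31
  rw [e3] at h3
  have hle : Nat.card s ≤ 63 := by
    have h4 : Nat.card s < Nat.card V := by
      rw [Nat.card_coe_set_eq, ← Set.ncard_univ]
      refine Set.ncard_lt_ncard ?_ Set.finite_univ
      rw [Set.ssubset_univ_iff]
      intro h
      exact h1s 1 (h ▸ trivial) rfl
    omega
  have hpos : 0 < Nat.card s := by
    haveI : Nonempty s := ⟨⟨v0, MulAction.mem_orbit_self _⟩⟩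
    exact Nat.card_pos
  have hs63 : Nat.card s = 63 := by
    unfold Nat.ModEq at h31 h3
    omega
  set H : Subgroup R := MulAction.stabilizer R v0 with hH
  have hcH : Nat.card H = 2 ^ a * 155 := by
    have h4 := H.card_mul_index
    rw [hH, MulAction.index_stabilizer, ← hs, ← Nat.card_coe_set_eq, hs63, hR, mul_comm, ← hH] at h4
    exact Nat.eq_of_mul_eq_mul_left (by norm_num) h4
  set ι : H →* S := R.subtype.comp H.subtype with hι
  have hιi : Function.Injective ι := by
    intro g h hgh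
    exact Subtype.ext (Subtype.ext hgh)
  set xH : H := ⟨⟨x, hx⟩, hxv⟩ with hxH
  have hιx : ι xH = x := rfl
  have hox : orderOf xH = 31 := by rw [← hx31, ← hιx, orderOf_injective ι hιi]
  have hP : Nat.card (zpowers xH) = 31 := by rw [Nat.card_zpowers, hox]
  have hPm : (zpowers xH).map ι = zpowers x := by rw [MonoidHom.map_zpowers, hιx]
  have hPS : Nat.card (zpowers x) = 31 := by rw [Nat.card_zpowers, hx31]
  obtain ⟨A, hA, hAP⟩ := exists_two (zpowers xH) hP
    ((card_cent_map hιi _).trans (by rw [hPm]; exact (hCN _ hPS).1))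
    ((card_norm_map hιi _).trans (by rw [hPm]; exact (hCN _ hPS).2)) hcH
    (fun K _ _ hK hK' hd => hna K hK hK' (by rwa [hcH] at hd))
  have h5 := core2 hV hb hx31 hv0 (hv2 v0) hF hxv (A.map ι) (a := a)
    (by rw [← hA]; exact (Nat.card_congr (A.equivMapOfInjective ι hιi).toEquiv).symm)
    (by
      rintro _ ⟨y, -, rfl⟩
      exact y.2)
    (by
      rintro _ ⟨y, hy, rfl⟩
      have h6 : xH⁻¹ ∈ normalizer (A : Set H) := inv_mem (hAP (mem_zpowers xH))
      have h7 := (Subgroup.mem_normalizer_iff.1 h6 y).1 hy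
      rw [inv_inv] at h7
      exact ⟨_, h7, by rw [map_mul, map_mul, map_inv, hιx]⟩)
  have h6 : 2 ^ 7 ≤ 2 ^ a := Nat.pow_le_pow_right (by norm_num) ha
  omega

end Cfsg.Agent.H503.El.Fix
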