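import Mathlib
import Cfsg.Prelude.Def_Classical

/-!
# TEAM ELUSIVE: `Ω⁺₈(2)`, explicit matrices (helper503)
-/

set_option autoImplicit false
set_option maxRecDepth 100000

namespace Cfsg.Agent.H503.El.O8

open Cfsg

/-- index type -/
abbrev I8 := Fin 4 ⊕ Fin 4

/-- matrices -/
abbrev M8 := Matrix I8 I8 (ZMod 2)

/-- the quadratic form -/
abbrev Q8 : (I8 → ZMod 2) → ZMod 2 := quadFormPlus 4 (ZMod 2)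

def A1 : M8 := Matrix.fromBlocks !![1,0,0,0; 0,0,0,0; 0,0,1,0; 0,0,0,0] !![0,0,0,0; 0,1,0,0; 0,0,0,0; 0,0,0,1] !![0,0,0,0; 0,1,0,0; 0,0,0,0; 0,0,0,1] !![1,0,0,0; 0,0,0,0; 0,0,1,0; 0,0,0,0]
def B1 : M8 := Matrix.fromBlocks !![1,0,0,1; 0,1,0,0; 0,0,1,1; 0,0,0,1] !![0,0,0,0; 0,0,0,0; 0,0,0,0; 0,0,0,0] !![0,0,0,1; 0,0,0,1; 0,0,0,0; 1,1,0,1] !![1,0,0,0; 0,1,0,0; 0,0,1,0; 1,0,1,1]
def A2 : M8 := Matrix.fromBlocks !![0,0,0,0; 0,0,0,0; 1,0,1,0; 0,0,1,1] !![1,1,1,1; 1,0,1,1; 1,1,1,0; 1,1,0,0] !![0,1,0,0; 1,1,0,0; 0,0,0,0; 0,0,0,0] !![0,0,1,0; 0,0,0,0; 0,0,1,1; 0,0,0,1]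
def B2 : M8 := Matrix.fromBlocks !![0,1,0,0; 0,1,0,0; 0,0,0,0; 0,1,0,1] !![0,0,1,0; 0,0,0,0; 1,0,0,0; 0,0,0,0] !![0,0,1,0; 0,1,1,1; 1,1,0,0; 0,1,0,0] !![0,0,0,0; 1,1,0,1; 0,0,0,0; 0,0,0,1]
def A3 : M8 := Matrix.fromBlocks !![1,0,0,1; 0,0,0,0; 0,0,0,0; 0,0,0,0] !![1,1,1,1; 1,1,0,1; 1,0,1,1; 1,1,1,1] !![0,0,0,0; 0,0,1,1; 0,1,0,1; 0,1,1,1] !![1,0,0,0; 0,0,0,0; 0,0,0,0; 1,0,0,0]
def B3 : M8 := Matrix.fromBlocks !![1,1,0,0; 0,0,0,0; 0,0,0,0; 0,0,0,0] !![1,1,0,0; 1,1,0,0; 0,0,1,0; 0,0,0,1] !![0,0,0,0; 0,1,0,0; 0,0,1,0; 0,0,0,1] !![1,0,0,0; 1,0,0,0; 0,0,0,0; 0,0,0,0]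

theorem A1_sq : A1 * A1 = 1 := by decide +kernel
theorem B1_sq : B1 * B1 = 1 := by decide +kernel
theorem A2_sq : A2 * A2 = 1 := by decide +kernel
theorem B2_sq : B2 * B2 = 1 := by decide +kernel
theorem A3_sq : A3 * A3 = 1 := by decide +kernel
theorem B3_sq : B3 * B3 = 1 := by decide +kernel

theorem A1_iso : ∀ v, Q8 (A1.mulVec v) = Q8 v := by decide +kernel
theorem B1_iso : ∀ v, Q8 (B1.mulVec v) = Q8 v := by decide +kernel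
theorem A2_iso : ∀ v, Q8 (A2.mulVec v) = Q8 v := by decide +kernel
theorem B2_iso : ∀ v, Q8 (B2.mulVec v) = Q8 v := by decide +kernel
theorem A3_iso : ∀ v, Q8 (A3.mulVec v) = Q8 v := by decide +kernel
theorem B3_iso : ∀ v, Q8 (B3.mulVec v) = Q8 v := by decide +kernel

/-- the products -/
def Y1 : M8 := A1 * B1 * A1 * B1
def Y2 : M8 := A2 * B2 * A2 * B2
def T3 : M8 := A3 * B3 * A3 * B3

theorem Y1_props : Y1 ^ 5 = 1 ∧ Y1 ≠ 1 := by decide +kernel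
theorem Y2_props : Y2 ^ 5 = 1 ∧ Y2 ≠ 1 ∧ Y2 ^ 4 + Y2 ^ 3 + Y2 ^ 2 + Y2 + 1 = 0 := by decide +kernel
theorem T3_props : T3 ^ 2 = 1 ∧ T3 ≠ 1 := by decide +kernel
theorem Y1_fix : ∃ v : I8 → ZMod 2, v ≠ 0 ∧ Y1.mulVec v = v := by decide +kernel
theorem T3_card0 : (Finset.univ.filter fun v : I8 → ZMod 2 => T3.mulVec v = v ∧ Q8 v = 0).card = 8 := by
  decide +kernel
theorem T3_card1 : (Finset.univ.filter fun v : I8 → ZMod 2 => T3.mulVec v = v ∧ ¬ Q8 v = 0).card = 8 := by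
  decide +kernel

end Cfsg.Agent.H503.El.O8
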