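import Mathlib
import Cfsg.Agent.H970.StabK

/-!
# TEAM ELUSIVE: the structure theorem of `H970.StabK` with subgroups (helper503)
-/

set_option autoImplicit false

namespace Cfsg.Agent.H503.El.Struct

open Subgroup Cfsg.Agent.H970.StabK

universe u

variable {H : Type u} [Group H] [Finite H] {p : ℕ} [hp : Fact p.Prime]

/-- the structure theorem, with subgroups -/
theorem exists_struct' {P : Subgroup H} (hP : Nat.card P = p) (hp2 : ¬ p ^ 2 ∣ Nat.card H) :
    ∃ (L : Subgroup H) (_ : L.Normal) (R : Subgroup L) (_ : R.Normal), IsSimpleGroup (L ⧸ R) ∧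
      ¬ p ∣ Nat.card R ∧ P ≤ L ∧ Nat.card H = Nat.card R * Nat.card (L ⧸ R) * L.index ∧
      p ∣ Nat.card (L ⧸ R) ∧
      ∃ D m : ℕ, Nat.card (normalizer (P : Set H)) = L.index * (D * (p * m)) ∧
        D ∣ Nat.card (centralizer (P : Set H)) ∧ D ∣ Nat.card R ∧
        (∀ r : ℕ, r.Prime → ∃ j : ℕ, r ^ j ∣ D ∧ r ^ ((Nat.card R).factorization r) ≡ r ^ j [MOD p]) := by
  obtain ⟨L, hL, hLn, R, hRn, hRp, hmax⟩ : ∃ L : Subgroup H, L = normalClosure (P : Set H) ∧ L.Normal ∧
      ∃ R : Subgroup L, R.Normal ∧ ¬ p ∣ Nat.card R ∧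
      ∀ N : Subgroup L, N.Normal → R ≤ N → N = R ∨ N = ⊤ :=
    ⟨_, rfl, Subgroup.normalClosure_normal, exists_simple hP hp2⟩
  have hPL : P ≤ L := by rw [hL]; exact Subgroup.subset_normalClosure
  have hcard : Nat.card (P.subgroupOf L) = p := by
    rw [Nat.card_congr (Subgroup.subgroupOfEquivOfLe hPL).toEquiv, hP]
  have hpL : p ∣ Nat.card L := by rw [← hcard]; exact Subgroup.card_subgroup_dvd_card _
  have hLRK : Nat.card L = Nat.card (L ⧸ R) * Nat.card R := Subgroup.card_eq_card_quotient_mul_card_subgroup R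
  have hpK : p ∣ Nat.card (L ⧸ R) := by
    rw [hLRK] at hpL
    exact (hp.out.dvd_mul.1 hpL).resolve_right hRp
  have hnt : Nontrivial (L ⧸ R) := by
    by_contra hcon
    rw [not_nontrivial_iff_subsingleton] at hcon
    rw [Nat.card_of_subsingleton (1 : L ⧸ R)] at hpK
    exact hp.out.one_lt.ne' (Nat.dvd_one.1 hpK)
  have hsimple : IsSimpleGroup (L ⧸ R) := by
    refine ⟨fun N hN => ?_⟩
    have h1 : R ≤ N.comap (QuotientGroup.mk' R) := by
      intro x hx
      rw [Subgroup.mem_comap, QuotientGroup.mk'_apply, (QuotientGroup.eq_one_iff x).2 hx]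
      exact N.one_mem
    have h2 : N = (N.comap (QuotientGroup.mk' R)).map (QuotientGroup.mk' R) :=
      (Subgroup.map_comap_eq_self_of_surjective (QuotientGroup.mk'_surjective R) N).symm
    rcases hmax _ (hN.comap _) h1 with h | h
    · left
      rw [h2, h]
      rw [eq_bot_iff]
      rintro _ ⟨x, hx, rfl⟩
      exact (QuotientGroup.eq_one_iff x).2 hx
    · right
      rw [h2, h]
      exact Subgroup.map_top_of_surjective _ (QuotientGroup.mk'_surjective R)
  have hmapcard : Nat.card ((P.subgroupOf L).map (QuotientGroup.mk' R)) = p := by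
    have h1 : Nat.card ((P.subgroupOf L).map (QuotientGroup.mk' R)) ∣ p := by
      have := Subgroup.card_map_dvd (P.subgroupOf L) (QuotientGroup.mk' R)
      rwa [hcard] at this
    rcases (Nat.dvd_prime hp.out).1 h1 with h | h
    · exfalso
      have h2 : (P.subgroupOf L).map (QuotientGroup.mk' R) = ⊥ := Subgroup.eq_bot_of_card_eq _ h
      rw [Subgroup.map_eq_bot_iff, QuotientGroup.ker_mk'] at h2
      apply hRp
      rw [← hcard]
      exact Subgroup.card_dvd_of_le h2
    · exact h
  have hN1 := card_normalizer_frattini hPL hP hp2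
  have hN2 := card_normalizer (R := R) hcard hRp
  set D := Nat.card (R ⊓ normalizer ((P.subgroupOf L : Subgroup L) : Set L) : Subgroup L) with hD
  have hDC : D ∣ Nat.card (centralizer (P : Set H)) := by
    have h1 : (R ⊓ normalizer ((P.subgroupOf L : Subgroup L) : Set L) : Subgroup L).map L.subtype ≤
        centralizer (P : Set H) := by
      rintro _ ⟨x, hx, rfl⟩
      rw [Subgroup.mem_centralizer_iff]
      intro y hy
      have h2 := comm_of_mem hcard hRp hx.1 hx.2 (y := ⟨y, hPL hy⟩) hy
      exact (congrArg Subtype.val h2).symm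
    have h2 := Subgroup.card_dvd_of_le h1
    rwa [Nat.card_congr (Subgroup.equivMapOfInjective _ L.subtype L.subtype_injective).toEquiv.symm] at h2
  have hHc : Nat.card H = Nat.card R * Nat.card (L ⧸ R) * L.index := by
    rw [← Subgroup.card_mul_index L, hLRK, mul_comm (Nat.card (L ⧸ R))]
  obtain ⟨m, hm⟩ : p ∣ Nat.card (normalizer (((P.subgroupOf L).map (QuotientGroup.mk' R) :
      Subgroup (L ⧸ R)) : Set (L ⧸ R))) := by
    have h := Subgroup.card_dvd_of_le (Subgroup.le_normalizer (H := (P.subgroupOf L).map (QuotientGroup.mk' R)))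
    rwa [hmapcard] at h
  refine ⟨L, hLn, R, hRn, hsimple, hRp, hPL, hHc, hpK, D, m, ?_, hDC, Subgroup.card_dvd_of_le inf_le_left,
    fun r hr => exists_pow hcard hRp r hr⟩
  rw [hN1, hN2, hm]

/-- no extension of a group of order `8` by a large simple group with small centralizers of elements of order `7` -/
theorem no_ext {L : Type*} [Group L] [Finite L] (A : Subgroup L) [A.Normal] (hA : Nat.card A = 8)
    (hs : IsSimpleGroup (L ⧸ A)) (h7 : 7 ∣ Nat.card (L ⧸ A)) (hcard : 40320 < Nat.card (L ⧸ A))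
    (hC : ∀ x y : L, orderOf x = 7 → y * x = x * y → orderOf y ∣ 7) : False := by
  classical
  set f : L →* MulAut A := MulAut.conjNormal with hf
  set K := f.ker with hK
  have hKn : (K.map (QuotientGroup.mk' A)).Normal :=
    Subgroup.Normal.map inferInstance _ (QuotientGroup.mk'_surjective A)
  have hmem : ∀ x ∈ K, ∀ a ∈ A, a * x = x * a := by
    intro x hx a ha
    have h1 : f x = 1 := hx
    have h2 : (f x ⟨a, ha⟩ : L) = a := by rw [h1]; rfl
    rw [hf, MulAut.conjNormal_apply] at h2
    calc a * x = (x * a * x⁻¹) * x := by rw [h2]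
      _ = x * a := by group
  have hle : Nat.card f.range ≤ 40320 := by
    have h1 : Nat.card f.range ≤ Nat.card (MulAut A) := Subgroup.card_le_card_group _
    have h2 : Nat.card (MulAut A) ≤ Nat.card (Equiv.Perm A) :=
      Nat.card_le_card_of_injective (fun e : MulAut A => (e : A ≃* A).toEquiv) (fun a b h => by
        ext x
        have := congrArg (fun e : A ≃ A => (e x : L)) h
        exact this)
    rw [Nat.card_perm, hA] at h2
    have h3 : (8 : ℕ).factorial = 40320 := by decide
    omega
  have hmul : Nat.card K * Nat.card f.range = Nat.card L := by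
    have h1 := K.card_mul_index
    rwa [hK, Subgroup.index_ker] at h1
  have hLA : Nat.card L = Nat.card (L ⧸ A) * 8 := by
    rw [← hA]
    exact Subgroup.card_eq_card_quotient_mul_card_subgroup A
  rcases hKn.eq_bot_or_eq_top with h | h
  · rw [Subgroup.map_eq_bot_iff, QuotientGroup.ker_mk'] at h
    have h1 : Nat.card K ≤ 8 := by
      rw [← hA]
      exact Nat.le_of_dvd Nat.card_pos (Subgroup.card_dvd_of_le h)
    have h2 : Nat.card K * Nat.card f.range ≤ 8 * 40320 := Nat.mul_le_mul h1 hle
    omega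
  · have h1 : Nat.card (L ⧸ A) ∣ Nat.card K := by
      have := Subgroup.card_map_dvd K (QuotientGroup.mk' A)
      rwa [h, Subgroup.card_top] at this
    haveI : Fact (Nat.Prime 7) := ⟨by norm_num⟩
    haveI : Fact (Nat.Prime 2) := ⟨by norm_num⟩
    obtain ⟨x, hx⟩ := exists_prime_orderOf_dvd_card' (G := K) 7 (h7.trans h1)
    obtain ⟨a, ha⟩ := exists_prime_orderOf_dvd_card' (G := A) 2 (by rw [hA]; norm_num)
    have h2 := hC x a (by rw [Subgroup.orderOf_coe, hx]) (hmem x x.2 a a.2)
    rw [Subgroup.orderOf_coe, ha] at h2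
    omega

end Cfsg.Agent.H503.El.Struct
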