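import Cfsg.Agent.H503.El.FiveT
import Cfsg.Agent.H503.El.Fix2
import Cfsg.Agent.H503.El.Act
import Cfsg.Agent.H503.El.O8Mat
import Cfsg.Agent.H503.El.Struct
import Cfsg.Agent.H732.SelfCentO
import Cfsg.Agent.H393.Iso.J23
import Cfsg.Agent.S0296
import Cfsg.Agent.LieClassical.FieldTransfer
import Cfsg.Agent.LieClassical.OrthCenter
import Cfsg.Agent.LieClassical.OmegaReindex
import Cfsg.Agent.ClassicalGeometry.IsoTransfer

/-!
# TEAM ELUSIVE: `Ω⁺₈(2)` (helper503)
-/

set_option autoImplicit false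

namespace Cfsg.Agent.H503.El.O8

open Subgroup Cfsg.Agent.H970.StabNum Cfsg.Agent.H278.El Cfsg.Agent.H396 Cfsg.Agent

/-- the linear group -/
abbrev S8 := Omega (ZMod 2) Q8

/-- the simple group -/
abbrev T8 := POmega (ZMod 2) Q8

/-- the matrices of the elements -/
def rho : S8 →* M8 :=
  (Units.coeHom M8).comp ((isometryGroup (ZMod 2) Q8).subtype.comp (Omega (ZMod 2) Q8).subtype)

theorem rho_injective : Function.Injective rho := by
  intro a b h
  exact Subtype.ext (Subtype.ext (Units.ext h))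

theorem rho_iso (g : S8) (v : I8 → ZMod 2) : Q8 ((rho g).mulVec v) = Q8 v :=
  ClassicalGeometry.IsoTransfer.mem_isometryGroup_iff.1 g.1.2 v

/-- the isometries with the given involutory matrices -/
def isoOf (A : M8) (h : A * A = 1) (hA : ∀ v, Q8 (A.mulVec v) = Q8 v) : isometryGroup (ZMod 2) Q8 :=
  ⟨⟨A, A, h, h⟩, ClassicalGeometry.IsoTransfer.mem_isometryGroup_iff.2 hA⟩

/-- a commutator of involutions -/
def comOf (A B : M8) (hA2 : A * A = 1) (hB2 : B * B = 1) (hA : ∀ v, Q8 (A.mulVec v) = Q8 v)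
    (hB : ∀ v, Q8 (B.mulVec v) = Q8 v) : S8 :=
  ⟨isoOf A hA2 hA * isoOf B hB2 hB * (isoOf A hA2 hA)⁻¹ * (isoOf B hB2 hB)⁻¹, by
    show _ ∈ commutator (isometryGroup (ZMod 2) Q8)
    rw [commutator_def]
    exact Subgroup.commutator_mem_commutator (Subgroup.mem_top _) (Subgroup.mem_top _)⟩

theorem rho_comOf (A B : M8) (hA2 : A * A = 1) (hB2 : B * B = 1) (hA : ∀ v, Q8 (A.mulVec v) = Q8 v)
    (hB : ∀ v, Q8 (B.mulVec v) = Q8 v) : rho (comOf A B hA2 hB2 hA hB) = A * B * A * B := by
  rfl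

attribute [irreducible] comOf

theorem card_t8 : Nat.card T8 = 174182400 := by
  have hord := Cfsg.Agent.S0293.result (F := ZMod 2) (q := 2) (by rw [ZMod.card]) 4 (by norm_num)
  rw [show Nat.gcd 4 (2 ^ 4 - 1) = 1 by norm_num] at hord
  simp only [Nat.reduceSub, Finset.prod_range_succ, Finset.prod_range_zero] at hord
  norm_num at hord ⊢
  omega

/-- the centre is trivial -/
theorem center_s8 : center S8 = ⊥ := by
  rw [eq_bot_iff]
  intro z hz
  have hnd := LieClassical.OmegaReindex.quadPlus_nondegenerate (m := 4) (F := ZMod 2)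
  have hz' : z ∈ center (Omega (ZMod 2) (⇑(LieClassical.OmegaReindex.quadPlus 4 (ZMod 2)))) := hz
  have h1 := (LieClassical.OrthCenter.mem_center_omega_iff hnd (by simp) ⟨Pi.single (.inl 0) 1, by
      intro h
      have := congrFun h (.inl 0)
      simp at this, by
      rw [LieClassical.OmegaReindex.coe_quadPlus]
      unfold quadFormPlus
      simp⟩ z).1 hz'
  have h2 : rho z = 1 := by
    rcases h1 with h | h
    · exact h
    · have h3 : rho z = -1 := h
      rw [h3]
      ext i j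
      rw [Matrix.neg_apply, CharTwo.neg_eq]
  exact Subgroup.mem_bot.2 (rho_injective (h2.trans (map_one rho).symm))

/-- the projection is an isomorphism -/
noncomputable def e8 : S8 ≃* T8 :=
  MulEquiv.ofBijective (QuotientGroup.mk' (center S8))
    ⟨by rw [← MonoidHom.ker_eq_bot_iff, QuotientGroup.ker_mk', center_s8], QuotientGroup.mk'_surjective _⟩

instance : Finite T8 := Nat.finite_of_card_ne_zero (by rw [card_t8]; norm_num)

instance : IsSimpleGroup T8 := S0296.result 4 le_rfl

/-- the elements -/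
def y1 : S8 := comOf A1 B1 A1_sq B1_sq A1_iso B1_iso
def y2 : S8 := comOf A2 B2 A2_sq B2_sq A2_iso B2_iso
def t3 : S8 := comOf A3 B3 A3_sq B3_sq A3_iso B3_iso

theorem rho_y1 : rho y1 = Y1 := rho_comOf _ _ _ _ _ _
theorem rho_y2 : rho y2 = Y2 := rho_comOf _ _ _ _ _ _
theorem rho_t3 : rho t3 = T3 := rho_comOf _ _ _ _ _ _

attribute [irreducible] y1 y2 t3
attribute [local irreducible] Y1 Y2 T3

theorem order_y1 : orderOf y1 = 5 := by
  haveI : Fact (Nat.Prime 5) := ⟨by norm_num⟩
  exact orderOf_eq_prime (rho_injective (by rw [map_pow, rho_y1, map_one]; exact Y1_props.1))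
    (fun h => Y1_props.2 (by rw [← rho_y1, h, map_one]))

theorem order_y2 : orderOf y2 = 5 := by
  haveI : Fact (Nat.Prime 5) := ⟨by norm_num⟩
  exact orderOf_eq_prime (rho_injective (by rw [map_pow, rho_y2, map_one]; exact Y2_props.1))
    (fun h => Y2_props.2.1 (by rw [← rho_y2, h, map_one]))

theorem order_t3 : orderOf t3 = 2 := by
  haveI : Fact (Nat.Prime 2) := ⟨by norm_num⟩
  exact orderOf_eq_prime (rho_injective (by rw [map_pow, rho_t3, map_one]; exact T3_props.1))
    (fun h => T3_props.2 (by rw [← rho_t3, h, map_one]))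

/-- the action -/
@[reducible] def act8 : MulDistribMulAction S8 (Multiplicative (I8 → ZMod 2)) := actOf rho

attribute [local instance] act8

theorem smul_def (g : S8) (v : Multiplicative (I8 → ZMod 2)) :
    g • v = Multiplicative.ofAdd ((rho g).mulVec (Multiplicative.toAdd v)) := rfl

theorem smul_y1 (v : I8 → ZMod 2) : y1 • (Multiplicative.ofAdd v : Multiplicative (I8 → ZMod 2)) =
    Multiplicative.ofAdd (Y1.mulVec v) := by
  rw [smul_def, rho_y1]; rfl

theorem smul_y2 (v : Multiplicative (I8 → ZMod 2)) : y2 • v =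
    Multiplicative.ofAdd (Y2.mulVec (Multiplicative.toAdd v)) := by
  rw [smul_def, rho_y2]

theorem smul_t3 (v : Multiplicative (I8 → ZMod 2)) : t3 • v =
    Multiplicative.ofAdd (T3.mulVec (Multiplicative.toAdd v)) := by
  rw [smul_def, rho_t3]

theorem card_v8 : Nat.card (Multiplicative (I8 → ZMod 2)) = 256 := by
  have h3 : Nat.card (Multiplicative (I8 → ZMod 2)) = Nat.card (I8 → ZMod 2) := rfl
  rw [h3, Nat.card_eq_fintype_card, Fintype.card_fun, ZMod.card, Fintype.card_sum, Fintype.card_fin]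
  norm_num

theorem add_self8 (v : I8 → ZMod 2) : v + v = 0 := CharTwo.add_self_eq_zero v

theorem sq8 (v : Multiplicative (I8 → ZMod 2)) : v * v = 1 := by
  show Multiplicative.ofAdd (Multiplicative.toAdd v + Multiplicative.toAdd v) = 1
  rw [add_self8, ofAdd_zero]

theorem y2_fpf (v : Multiplicative (I8 → ZMod 2)) (hv : y2 • v = v) : v = 1 := by
  rw [smul_y2] at hv
  have h3 : Y2.mulVec (Multiplicative.toAdd v) = Multiplicative.toAdd v := hv
  have hp : ∀ k : ℕ, (Y2 ^ k).mulVec (Multiplicative.toAdd v) = Multiplicative.toAdd v := by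
    intro k
    induction k with
    | zero => rw [pow_zero, Matrix.one_mulVec]
    | succ k ih => rw [pow_succ, ← Matrix.mulVec_mulVec, h3, ih]
  have h4 := congrArg (fun M => M.mulVec (Multiplicative.toAdd v)) Y2_props.2.2
  simp only [Matrix.add_mulVec, hp, h3, Matrix.one_mulVec, Matrix.zero_mulVec, add_self8, zero_add] at h4
  show Multiplicative.ofAdd (Multiplicative.toAdd v) = 1
  rw [h4, ofAdd_zero]

/-- the two classes of elements of order `5` -/
theorem not_conj (g : T8) : e8 y2 ∉ zpowers (g * e8 y1 * g⁻¹) := by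
  intro h
  obtain ⟨k, hk⟩ := Subgroup.mem_zpowers_iff.1 h
  obtain ⟨g', rfl⟩ := e8.surjective g
  rw [← map_inv, ← map_mul, ← map_mul, ← map_zpow, e8.injective.eq_iff] at hk
  obtain ⟨v, hv0, hv⟩ := Y1_fix
  have h1 : y1 • (Multiplicative.ofAdd v : Multiplicative (I8 → ZMod 2)) = Multiplicative.ofAdd v := by
    rw [smul_y1, hv]
  have h2 : ∀ k : ℤ, y1 ^ k • (Multiplicative.ofAdd v : Multiplicative (I8 → ZMod 2)) = Multiplicative.ofAdd v := by
    intro k
    have h3 : y1 ∈ MulAction.stabilizer S8 (Multiplicative.ofAdd v : Multiplicative (I8 → ZMod 2)) := h1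
    exact zpow_mem h3 k
  have h3 := y2_fpf (g' • Multiplicative.ofAdd v) (by
    rw [← hk, conj_zpow, ← mul_smul, inv_mul_cancel_right, mul_smul, h2])
  have h4 : (Multiplicative.ofAdd v : Multiplicative (I8 → ZMod 2)) = 1 := by
    rw [← inv_smul_smul g' (Multiplicative.ofAdd v : Multiplicative (I8 → ZMod 2)), h3, smul_one]
  exact hv0 (Multiplicative.ofAdd.injective h4)

/-- no element of order `5` commutes with `t3` -/
theorem no_comm (y : S8) (hy : orderOf y = 5) (hc : t3 * y = y * t3) : False := by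
  refine Fix.no_five (V := Multiplicative (I8 → ZMod 2)) card_v8 sq8 (t := t3) (y := y) ?_ hy ?_ hc
    {v | Q8 (Multiplicative.toAdd v) = 0} ?_ ?_ ?_
  · intro v
    rw [← mul_smul]
    have h1 : t3 * t3 = 1 := by
      rw [← pow_two]
      exact orderOf_dvd_iff_pow_eq_one.1 (by rw [order_t3])
    rw [h1, one_smul]
  · intro hall
    have h3 : rho (y * y) = 1 := actOf_basis rho (y * y) fun i => by
      rw [mul_smul]; exact hall _
    have h4 : y * y = 1 := rho_injective (h3.trans (map_one _).symm)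
    have h5 : orderOf y ∣ 2 := orderOf_dvd_of_pow_eq_one (by rw [pow_two]; exact h4)
    rw [hy] at h5
    omega
  · intro v
    show Q8 ((rho y).mulVec (Multiplicative.toAdd v)) = 0 ↔ Q8 (Multiplicative.toAdd v) = 0
    rw [rho_iso]
  · have h1 : Nat.card {v : Multiplicative (I8 → ZMod 2) // t3 • v = v ∧ v ∈ {v | Q8 (Multiplicative.toAdd v) = 0}} =
        Nat.card {v : I8 → ZMod 2 // T3.mulVec v = v ∧ Q8 v = 0} := by
      refine Nat.card_congr (Equiv.subtypeEquiv Multiplicative.toAdd fun v => ?_)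
      rw [smul_t3]
      rfl
    rw [h1, Nat.card_eq_fintype_card, Fintype.card_subtype]
    exact T3_card0
  · have h1 : Nat.card {v : Multiplicative (I8 → ZMod 2) // t3 • v = v ∧ v ∉ {v | Q8 (Multiplicative.toAdd v) = 0}} =
        Nat.card {v : I8 → ZMod 2 // T3.mulVec v = v ∧ ¬ Q8 v = 0} := by
      refine Nat.card_congr (Equiv.subtypeEquiv Multiplicative.toAdd fun v => ?_)
      rw [smul_t3]
      rfl
    rw [h1, Nat.card_eq_fintype_card, Fintype.card_subtype]
    exact T3_card1

/-- a subgroup isomorphic to `J₂` misses the class of `t3` -/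
theorem not_j2 {R : Subgroup T8} (h : ¬ DerT T8 R) (hJ : Spor.IsoJ2 R) : False := by
  haveI : Fact (Nat.Prime 5) := ⟨by norm_num⟩
  have hot : orderOf (e8 t3) = 2 := by rw [MulEquiv.orderOf_eq, order_t3]
  obtain ⟨g, hg⟩ := exists_conj_of_not_derT h (e8 t3) (by rw [hot]; exact Nat.prime_two)
  have ho : orderOf (⟨_, hg⟩ : R) = 2 := by
    rw [Subgroup.orderOf_mk, ← MulAut.conj_apply, MulEquiv.orderOf_eq, hot]
  have h5 : 5 ∣ Nat.card (centralizer ({⟨_, hg⟩} : Set R)) := by
    rcases H393.Iso.j2_card hJ ho with h1 | h1 <;> rw [h1] <;> norm_num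
  obtain ⟨⟨y, hyc⟩, hy⟩ := exists_prime_orderOf_dvd_card' 5 h5
  rw [Subgroup.orderOf_mk] at hy
  have hc : (y : T8) * (g * e8 t3 * g⁻¹) = (g * e8 t3 * g⁻¹) * y :=
    congrArg Subtype.val (mem_centralizer_singleton_iff.1 hyc)
  set w := e8.symm (g⁻¹ * y * g) with hw
  have how : orderOf w = 5 := by
    rw [hw, MulEquiv.orderOf_eq]
    have h1 : g⁻¹ * (y : T8) * g = MulAut.conj g⁻¹ (y : T8) := by rw [MulAut.conj_apply, inv_inv]
    rw [h1, MulEquiv.orderOf_eq, Subgroup.orderOf_coe, hy]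
  refine no_comm w how ?_
  apply e8.injective
  rw [map_mul, map_mul, hw, e8.apply_symm_apply]
  calc e8 t3 * (g⁻¹ * y * g) = g⁻¹ * ((g * e8 t3 * g⁻¹) * y) * g := by group
    _ = g⁻¹ * (y * (g * e8 t3 * g⁻¹)) * g := by rw [hc]
    _ = g⁻¹ * y * g * e8 t3 := by group

end Cfsg.Agent.H503.El.O8
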