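import Cfsg.Agent.H884.ElFin
import Cfsg.Agent.H264.FKS.TwoCl

/-!
# `PΩ₈⁺(q)`: subgroups with cyclic Sylow `r`-subgroups, `r ∣ q² + 1`, `r > 5` (helper503, for S3553)

`T` has elements of order `r` whose centralizers have order prime to the characteristic `p`, and elements of order
`r` commuting with elements of order `p`.
-/

set_option autoImplicit false

namespace Cfsg.Agent.H503.El.CycPlus

open Module QuadraticMap Cfsg Cfsg.Agent.LieClassical.OrthCore Cfsg.Agent.LieClassical.OrthTrans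
  Cfsg.Agent.LieClassical.OrthFinite Cfsg.Agent.LieClassical.OrthSimple Cfsg.Agent.H955 Cfsg.Agent.H954.TSing
open Cfsg.Agent.H264.FKS (Cyc)

section lemmaA

variable {F V : Type*} [Field F] [Fintype F] [AddCommGroup V] [Module F V] [FiniteDimensional F V] [Nontrivial V]
  {Q : QuadraticForm F V}

omit [Fintype F] [FiniteDimensional F V] in
/-- a vector `w = g v - v` fixed by the unipotent `g ≠ 1` -/
theorem exists_fixed {p : ℕ} [Fact p.Prime] [CharP F p] {g : V ≃ₗ[F] V} (hg : g ^ p = 1) (hg1 : g ≠ 1) :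
    ∃ v, g v - v ≠ 0 ∧ g (g v - v) = g v - v := by
  haveI hch : CharP (Module.End F V) p := charP_of_injective_algebraMap (algebraMap F (Module.End F V)).injective p
  set N : Module.End F V := (g : Module.End F V) - 1 with hN
  have hNp : N ^ p = 0 := by
    have h1 : N ^ p = (g : Module.End F V) ^ p - 1 ^ p := sub_pow_char_of_commute p (Commute.one_right _)
    rw [h1, coe_pow_eq_one hg, one_pow, sub_self]
  have hN0 : N ≠ 0 := fun h => hg1 (by
    ext v
    have h2 : N v = 0 := by rw [h]; rfl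
    exact sub_eq_zero.1 h2)
  classical
  have hex : ∃ k, N ^ k = 0 := ⟨p, hNp⟩
  have h0 : Nat.find hex ≠ 0 := fun h => by
    have h1 := Nat.find_spec hex
    rw [h, pow_zero] at h1
    exact one_ne_zero h1
  have h1 : Nat.find hex ≠ 1 := fun h => by
    have h1 := Nat.find_spec hex
    rw [h, pow_one] at h1
    exact hN0 h1
  obtain ⟨k, hk⟩ : ∃ k, Nat.find hex = k + 2 := ⟨Nat.find hex - 2, by omega⟩
  have h2 : N ^ (k + 1) ≠ 0 := Nat.find_min hex (by omega)
  have h3 : N ^ (k + 2) = 0 := by rw [← hk]; exact Nat.find_spec hex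
  obtain ⟨v, hv⟩ : ∃ v, (N ^ (k + 1)) v ≠ 0 := by
    by_contra hcon
    push Not at hcon
    exact h2 (LinearMap.ext hcon)
  refine ⟨(N ^ k) v, ?_, ?_⟩
  · rw [pow_succ', Module.End.mul_apply] at hv
    exact hv
  · have h4 : (N ^ (k + 2)) v = 0 := by rw [h3]; rfl
    rw [pow_succ', pow_succ', Module.End.mul_apply, Module.End.mul_apply] at h4
    exact sub_eq_zero.1 h4

/-- an isometry of order `p` commuting with a sharp element -/
theorem eq_one_of_comm {r : ℕ} [Fact r.Prime] (hi : 2 ≤ orderOf (Fintype.card F : ZMod r))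
    {T g : V ≃ₗ[F] V} (hT : T ∈ O Q) (hTr : T ^ r = 1) (hfix : fixS T = ⊥)
    (hsh : ∀ W : Submodule F V, Cfsg.Agent.H955.Inv T W → TS Q W → W = ⊥) (hg : g ∈ O Q) (hgT : g * T = T * g)
    {p : ℕ} [Fact p.Prime] [CharP F p] (hgp : g ^ p = 1) : g = 1 := by
  by_contra hg1
  obtain ⟨v₀, hv₀, hv₀'⟩ := exists_fixed hgp hg1
  -- the radical of `[V, g]`
  let W : Submodule F V := comS g ⊓ fixS g
  have hcom : ∀ v, g (T v) = T (g v) := fun v => LinearEquiv.congr_fun hgT v
  have hpol : ∀ a ∈ W, ∀ b ∈ W, polar Q a b = 0 := by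
    rintro a ⟨ha, -⟩ b ⟨-, hb⟩
    obtain ⟨v, rfl⟩ := mem_comS.1 ha
    have hb' := mem_fixS.1 hb
    rw [polar_sub_left, sub_eq_zero]
    conv_lhs => rw [← hb']
    exact polar_map hg _ _
  have hWinv : ∀ a ∈ W, T a ∈ W := by
    rintro a ⟨ha, hb⟩
    refine ⟨?_, ?_⟩
    · obtain ⟨v, rfl⟩ := mem_comS.1 ha
      exact mem_comS.2 ⟨T v, by rw [hcom, map_sub]⟩
    · have hb' := mem_fixS.1 hb
      exact mem_fixS.2 (by rw [hcom, hb'])
  let W₀ : Submodule F V :=
    { carrier := {a | a ∈ W ∧ Q a = 0}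
      add_mem' := by
        rintro a b ⟨ha, ha'⟩ ⟨hb, hb'⟩
        exact ⟨W.add_mem ha hb, by rw [Q_add, ha', hb', hpol a ha b hb, add_zero, add_zero]⟩
      zero_mem' := ⟨W.zero_mem, QuadraticMap.map_zero Q⟩
      smul_mem' := by
        rintro c a ⟨ha, ha'⟩
        exact ⟨W.smul_mem c ha, by rw [QuadraticMap.map_smul, ha', smul_zero]⟩ }
  have hW₀ : W₀ = ⊥ := hsh W₀ (fun a ha => ⟨hWinv a ha.1, by rw [hT]; exact ha.2⟩) fun a ha => ha.2
  -- `Q` is injective on `W`
  have hinj : Function.Injective fun a : W => Q (a : V) := by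
    intro a b hab
    have h1 : (a : V) - b ∈ W₀ := by
      refine ⟨W.sub_mem a.2 b.2, ?_⟩
      have h2 : Q (b : V) = Q (a : V) := hab.symm
      have h3 : Q ((a : V) - b + b) = Q ((a : V) - b) + Q (b : V) + polar Q ((a : V) - b) b := Q_add _ _
      rw [sub_add_cancel, hpol _ (W.sub_mem a.2 b.2) _ b.2, add_zero, h2] at h3
      exact (add_eq_right.1 h3.symm)
    rw [hW₀, Submodule.mem_bot, sub_eq_zero] at h1
    exact Subtype.ext h1
  haveI : Finite V := Module.finite_of_finite F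
  have hle : Nat.card W ≤ Nat.card F := Nat.card_le_card_of_injective _ hinj
  have hd1 : finrank F W ≤ 1 := by
    by_contra hcon
    push Not at hcon
    rw [Module.natCard_eq_pow_finrank (K := F) (V := W)] at hle
    have h1 : 1 < Nat.card F := Finite.one_lt_card
    have h2 : Nat.card F ^ 1 < Nat.card F ^ finrank F W := Nat.pow_lt_pow_right h1 hcon
    rw [pow_one] at h2
    omega
  have hd := H951.ord_dvd_finrank (coe_pow_eq_one hTr) (W := W) hWinv (by
    rw [fx_coe, hfix, inf_bot_eq])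
  have hd0 : finrank F W ≠ 0 := fun h => by
    rw [Submodule.finrank_eq_zero] at h
    have h1 : g v₀ - v₀ ∈ W := ⟨mem_comS.2 ⟨v₀, rfl⟩, mem_fixS.2 hv₀'⟩
    rw [h] at h1
    exact hv₀ h1
  have := Nat.le_of_dvd (by omega) hd
  omega

end lemmaA

section orth

variable {F : Type} [Field F] [Fintype F] {ι : Type} [Fintype ι] [DecidableEq ι] {Q : QuadraticForm F (ι → F)}

/-- the linear isometry of an element of `Ω` -/
noncomputable def toL (x : Omega F (⇑Q)) : (ι → F) ≃ₗ[F] (ι → F) := (omegaEquiv Q x).1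

omit [Fintype F] in
theorem toL_mul (x y : Omega F (⇑Q)) : toL (x * y) = toL x * toL y := by
  rw [toL, map_mul]; rfl

omit [Fintype F] in
theorem toL_pow (x : Omega F (⇑Q)) (n : ℕ) : toL (x ^ n) = toL x ^ n := by
  rw [toL, map_pow]; rfl

omit [Fintype F] in
theorem toL_inj {x y : Omega F (⇑Q)} (h : toL x = toL y) : x = y :=
  (omegaEquiv Q).injective (Subtype.ext h)

omit [Fintype F] in
theorem toL_one : toL (1 : Omega F (⇑Q)) = 1 := by
  rw [toL, map_one]; rfl

omit [Fintype F] in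
theorem toL_mem (x : Omega F (⇑Q)) : toL x ∈ O Q := by
  have h1 : (⁅O Q, O Q⁆ : Subgroup _) ≤ O Q := Subgroup.commutator_le.2 fun a ha b hb =>
    (O Q).mul_mem ((O Q).mul_mem ((O Q).mul_mem ha hb) ((O Q).inv_mem ha)) ((O Q).inv_mem hb)
  exact h1 (omegaEquiv Q x).2

/-- isometries of odd order -/
theorem exists_toL (hD : H390.Lift.Data Q) {T : (ι → F) ≃ₗ[F] (ι → F)} (hT : T ∈ O Q) {r : ℕ} (hr : Odd r)
    (hTr : T ^ r = 1) : ∃ x : Omega F (⇑Q), toL x = T := by
  have hg : (glEquiv ι F).symm T ∈ isometryGroup F (⇑Q) := by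
    rw [mem_isometryGroup_iff]
    intro v
    have h := glEquiv_apply ((glEquiv ι F).symm T) v
    rw [MulEquiv.apply_symm_apply] at h
    have h2 : ((((glEquiv ι F).symm T : GL ι F) : Matrix ι ι F).mulVec v) = T v := h.symm
    rw [h2]
    exact hT v
  obtain ⟨x, hx⟩ := H884.El.exists_omega hD hg hr (by rw [← map_pow, hTr, map_one])
  refine ⟨x, ?_⟩
  ext v : 1
  have h1 : toL x v = (((x : isometryGroup F (⇑Q)) : GL ι F) : Matrix ι ι F).mulVec v := omegaEquiv_apply Q x v
  have h := glEquiv_apply ((glEquiv ι F).symm T) v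
  rw [MulEquiv.apply_symm_apply] at h
  rw [h1, hx]
  exact h.symm

/-- an element of order `p` of `PΩ(Q)` does not commute with a sharp element -/
theorem not_comm (hD : H390.Lift.Data Q) {r : ℕ} (hr : r.Prime) (hr2 : r ≠ 2) {x : Omega F (⇑Q)} (hx : x ^ r = 1)
    {p : ℕ} (hp : p.Prime) (hsh : ∀ g : Omega F (⇑Q), g * x = x * g → g ^ p = 1 → g = 1)
    {a : POmega F (⇑Q)} (ha : orderOf a = p)
    (hax : a * QuotientGroup.mk' (Subgroup.center (Omega F (⇑Q))) x =
      QuotientGroup.mk' (Subgroup.center (Omega F (⇑Q))) x * a) : False := by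
  obtain ⟨g, rfl⟩ := QuotientGroup.mk'_surjective (Subgroup.center (Omega F (⇑Q))) a
  -- the commutator is central
  set z := x⁻¹ * (g * x * g⁻¹) with hz
  have hzc : z ∈ Subgroup.center (Omega F (⇑Q)) := by
    rw [← QuotientGroup.ker_mk' (Subgroup.center (Omega F (⇑Q))), MonoidHom.mem_ker, hz]
    rw [map_mul, map_mul, map_mul, map_inv, map_inv, hax]
    group
  have hz2 : z ^ 2 = 1 := H390.Lift.center_sq hD z hzc
  have h1 : g * x * g⁻¹ = x * z := by rw [hz]; group
  have hzr : z ^ r = 1 := by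
    have h2 : (g * x * g⁻¹) ^ r = 1 := by rw [conj_pow, hx, mul_one, mul_inv_cancel]
    have h3 : Commute x z := (Subgroup.mem_center_iff.1 hzc x)
    rw [h1, h3.mul_pow, hx, one_mul] at h2
    exact h2
  have hz1 : z = 1 := by
    have h3 : orderOf z ∣ r := orderOf_dvd_of_pow_eq_one hzr
    have h4 : orderOf z ∣ 2 := orderOf_dvd_of_pow_eq_one hz2
    have h5 : Nat.Coprime r 2 := (Nat.coprime_primes hr Nat.prime_two).2 hr2
    exact orderOf_eq_one_iff.1 (Nat.eq_one_of_dvd_coprimes h5 h3 h4)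
  have hgx : g * x = x * g := by
    rw [hz1, mul_one] at h1
    exact mul_inv_eq_iff_eq_mul.1 h1
  have hpd : p ∣ orderOf g := by rw [← ha]; exact orderOf_map_dvd _ g
  obtain ⟨m, hm⟩ := hpd
  have h0 : 0 < orderOf g := orderOf_pos g
  have hm0 : m ≠ 0 := by
    rintro rfl
    rw [mul_zero] at hm
    omega
  have h2 := hsh (g ^ m) (by
    have h3 : Commute g x := hgx
    exact (h3.pow_left m).eq) (by rw [← pow_mul, mul_comm, ← hm, pow_orderOf_eq_one])
  have h3 := Nat.le_of_dvd (Nat.pos_of_ne_zero hm0) (orderOf_dvd_of_pow_eq_one h2)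
  rw [hm] at h3
  have h4 : 2 * m ≤ p * m := Nat.mul_le_mul_right m hp.two_le
  omega

/-- the sharp element -/
theorem exists_sharp_elt (hQ : Nondeg Q) (hP : IsPlus Q) (h8 : Fintype.card ι = 8) {r : ℕ} [Fact r.Prime]
    (hr5 : 5 < r) (hrF : (r : F) ≠ 0) (h4 : orderOf (Fintype.card F : ZMod r) = 4) :
    ∃ T ∈ O Q, T ^ r = 1 ∧ T ≠ 1 ∧ fixS T = ⊥ ∧
      ∀ W : Submodule F (ι → F), Cfsg.Agent.H955.Inv T W → TS Q W → W = ⊥ := by
  have hd8 : finrank F (ι → F) = 8 := by rw [Module.finrank_fintype_fun_eq_card, h8]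
  obtain ⟨T, hT, hTr, hT1, hd, hsh⟩ := exists_sharp (Q := Q) (r := r) (A := 2) (by omega) hrF (by rw [h4]; decide) hQ
    (by omega) (Or.inl ⟨by rw [hd8]; decide, Or.inr ⟨by rw [h4, hd8], iff_of_true hP (by decide)⟩⟩)
  rw [h4] at hd hsh
  have hc := H951.finrank_fx_add_cm hrF (coe_pow_eq_one hTr)
  rw [fx_coe, cm_coe, hd, hd8] at hc
  have hf : fixS T = ⊥ := by
    rw [← Submodule.finrank_eq_zero (R := F)]
    omega
  have hr12 : 3 ≤ (r - 1) / 4 := by
    have h5 : 4 ∣ r - 1 := by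
      rw [← h4]
      apply orderOf_dvd_of_pow_eq_one
      apply ZMod.pow_card_sub_one_eq_one
      intro h
      rw [h] at h4
      have h6 : orderOf (0 : ZMod r) = 0 := by
        rw [orderOf_eq_zero_iff']
        intro n hn h
        rw [zero_pow (by omega)] at h
        exact zero_ne_one h
      omega
    obtain ⟨k, hk⟩ := h5
    have h6 : k ≠ 2 := by
      rintro rfl
      have h7 : r = 9 := by omega
      have h8 : Nat.Prime r := Fact.out
      rw [h7] at h8
      exact absurd h8 (by decide)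
    omega
  refine ⟨T, hT, hTr, hT1, hf, fun W hW hWs => ?_⟩
  obtain ⟨b, hb, W₀, hW₀, -, hWd⟩ := hsh W hW hWs
  have hb0 : b = 0 := by omega
  rw [hf, le_bot_iff] at hW₀
  rw [hb0, hW₀, finrank_bot] at hWd
  rw [← Submodule.finrank_eq_zero (R := F)]
  omega

/-- an element of order `r` commuting with an element of order `p` -/
theorem exists_pair_elt (hQ : Nondeg Q) (h8 : Fintype.card ι = 8) {r : ℕ} [Fact r.Prime]
    (hr5 : 5 < r) (hrF : (r : F) ≠ 0) (h4 : orderOf (Fintype.card F : ZMod r) = 4) {p : ℕ} [Fact p.Prime] [CharP F p] :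
    ∃ T ∈ O Q, T ^ r = 1 ∧ T ≠ 1 ∧ ∃ s ∈ ⁅O Q, O Q⁆, s * T = T * s ∧ s ^ p = 1 ∧ s ≠ 1 := by
  have hd8 : finrank F (ι → F) = 8 := by rw [Module.finrank_fintype_fun_eq_card, h8]
  obtain ⟨U, hU, hUd, hUP⟩ := exists_sub_type hQ (n := 4) (by decide) (by norm_num) False
    (Or.inl ⟨by rw [hd8]; decide, Or.inl (by rw [hd8]; norm_num)⟩)
  rw [iff_false] at hUP
  obtain ⟨T, hT, hTr, hTc, hTf⟩ := exists_comS_eq (Q := Q) (r := r) (by omega) (not_dvd_of_ne (r := r) hrF) hU (s := 1) (by
    rw [hUd, cc, Nat.card_eq_fintype_card, h4]; rfl) (by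
    rw [Nat.card_eq_fintype_card, h4]
    exact iff_of_false hUP (by decide))
  have hT1 : T ≠ 1 := by
    intro h1
    have h3 : comS T = ⊥ := by
      rw [h1, Submodule.eq_bot_iff]
      intro v hv
      obtain ⟨w, hw⟩ := mem_comS.1 hv
      rw [← hw]
      exact sub_self w
    rw [← hTc, h3, finrank_bot] at hUd
    omega
  refine ⟨T, hT, hTr, hT1, ?_⟩
  have hKd : finrank F (perp Q U) = 4 := by
    have h1 := Submodule.finrank_add_eq_of_isCompl (isCompl_perp hU)
    omega
  obtain ⟨u, huK, hu0, hu⟩ := exists_sing_mem (Q := Q) (perp Q U) (by omega)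
  -- `w` orthogonal to `u`
  obtain ⟨w, hwK, hwu, hw⟩ : ∃ w ∈ perp Q U, polar Q u w = 0 ∧ ∀ c : F, w ≠ c • u := by
    let L : Submodule F (ι → F) := perp Q U ⊓ LinearMap.ker (polarBilin Q u)
    have hL : 3 ≤ finrank F L := by
      have h1 := Submodule.finrank_sup_add_finrank_inf_eq (perp Q U) (LinearMap.ker (polarBilin Q u))
      have h2 := Submodule.finrank_le (perp Q U ⊔ LinearMap.ker (polarBilin Q u))
      have h3 := LinearMap.finrank_range_add_finrank_ker (polarBilin Q u)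
      have h5 : finrank F (LinearMap.range (polarBilin Q u)) ≤ 1 := by
        have := Submodule.finrank_le (LinearMap.range (polarBilin Q u))
        rwa [finrank_self] at this
      have h6 : finrank F L = finrank F (perp Q U ⊓ LinearMap.ker (polarBilin Q u) : Submodule F (ι → F)) := rfl
      omega
    have h1 : ¬ L ≤ Submodule.span F {u} := fun h => by
      have h2 := Submodule.finrank_mono h
      have h3 := finrank_span_singleton (K := F) hu0
      omega
    obtain ⟨w, hwL, hwu⟩ := SetLike.not_le_iff_exists.1 h1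
    exact ⟨w, hwL.1, hwL.2, fun c hc => hwu (hc ▸ Submodule.smul_mem _ c (Submodule.mem_span_singleton_self u))⟩
  have hfixu : T u = u := mem_fixS.1 (hTf ▸ huK)
  have hfixw : T w = w := mem_fixS.1 (hTf ▸ hwK)
  have hG : Good Q := good_of_finite hQ (by rw [hd8]; norm_num)
  refine ⟨siegel Q u w hu hwu, ?_, ?_, ?_, ?_⟩
  · rw [hG.commutator_eq_E]
    exact siegel_mem_E hu hwu
  · have h1 := siegel_conj hT hu hwu (by rw [hfixu]; exact hu) (by rw [hfixu, hfixw]; exact hwu)
    have h2 : siegel Q (T u) (T w) (by rw [hfixu]; exact hu) (by rw [hfixu, hfixw]; exact hwu) =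
        siegel Q u w hu hwu := siegel_congr _ _ _ _ hfixu hfixw
    rw [h2] at h1
    exact (mul_inv_eq_iff_eq_mul.1 h1).symm
  · have h1 : ∀ n : ℕ, ∀ h, siegel Q u w hu hwu ^ n = siegel Q u (n • w) hu h := by
      intro n
      induction n with
      | zero =>
        intro h
        ext v
        rw [pow_zero, siegel_apply]
        simp
      | succ n ih =>
        intro h
        have h2 : polar Q u (n • w) = 0 := by rw [← Nat.cast_smul_eq_nsmul F, polar_smul_right, hwu, smul_zero]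
        rw [pow_succ, ih h2, siegel_mul hu h2 hwu (by rw [← succ_nsmul]; exact h)]
        exact siegel_congr _ _ _ _ rfl (succ_nsmul w n).symm
    have h2 : p • w = 0 := by rw [← Nat.cast_smul_eq_nsmul F, CharP.cast_eq_zero, zero_smul]
    rw [h1 p (by rw [h2, polar_zero_right])]
    ext v
    rw [siegel_apply, h2]
    simp
  · intro h
    obtain ⟨v, hv⟩ := hQ.exists_polar_eq hu0 1
    have h1 : siegel Q u w hu hwu v = v := by rw [h]; rfl
    rw [siegel_apply, hv, one_smul, mul_one] at h1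
    apply hw (polar Q w v + Q w)
    have h2 : w = (v + w - polar Q w v • u - Q w • u) - v + (polar Q w v + Q w) • u := by
      rw [add_smul]; abel
    rw [h1, sub_self, zero_add] at h2
    exact h2

theorem orderOf_of_prim {q e r : ℕ} (hq : 0 < q) (h : H436.Prim q e r) : orderOf (q : ZMod r) = e := by
  have key : ∀ m : ℕ, (q : ZMod r) ^ m = 1 ↔ r ∣ q ^ m - 1 := fun m => by
    have h1 : (1 : ℕ) ≤ q ^ m := Nat.one_le_pow _ _ hq
    rw [← ZMod.natCast_eq_zero_iff, Nat.cast_sub h1, sub_eq_zero, Nat.cast_pow, Nat.cast_one]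
  apply Nat.dvd_antisymm
  · exact orderOf_dvd_of_pow_eq_one ((key e).2 ((h.dvd_iff e).2 dvd_rfl))
  · exact (h.dvd_iff _).1 ((key _).1 (pow_orderOf_eq_one _))

/-- **Subgroups with cyclic Sylow `r`-subgroups.** -/
theorem der_of_cyc (hD : H390.Lift.Data Q) (hQ : Nondeg Q) (hP : IsPlus Q) (h8 : Fintype.card ι = 8) {r : ℕ}
    (hr : H436.Prim (Nat.card F) 4 r) (h5 : 5 < r) (R : Subgroup (POmega F (⇑Q))) (hR : Cyc r R) :
    H396.Der (POmega F (⇑Q)) R := by
  haveI hrp : Fact r.Prime := ⟨hr.prime⟩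
  have hr2 : r ≠ 2 := by omega
  have hrF : (r : F) ≠ 0 := H264.FKS.cast_ne_zero' hr
  have h4 : orderOf (Fintype.card F : ZMod r) = 4 := by
    rw [← Nat.card_eq_fintype_card]
    exact orderOf_of_prim Nat.card_pos hr
  obtain ⟨p, hpc⟩ := CharP.exists F
  haveI hp : Fact p.Prime := ⟨CharP.char_is_prime F p⟩
  have hodd : Odd r := hr.prime.odd_of_ne_two hr2
  haveI : Nontrivial (ι → F) := by
    rw [← Module.finrank_pos_iff (R := F), Module.finrank_fintype_fun_eq_card, h8]
    norm_num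
  obtain ⟨T₁, hT₁, hTr₁, hT1₁, hfix, hsh⟩ := exists_sharp_elt hQ hP h8 h5 hrF h4
  obtain ⟨T₂, hT₂, hTr₂, hT1₂, s, hs, hsT, hsp, hs1⟩ := exists_pair_elt (p := p) hQ h8 h5 hrF h4
  obtain ⟨x, hx⟩ := exists_toL hD hT₁ hodd hTr₁
  obtain ⟨y, hy⟩ := exists_toL hD hT₂ hodd hTr₂
  obtain ⟨t, ht⟩ : ∃ t : Omega F (⇑Q), toL t = s :=
    ⟨(omegaEquiv Q).symm ⟨s, hs⟩, by rw [toL, MulEquiv.apply_symm_apply]⟩
  have hxr : x ^ r = 1 := toL_inj (by rw [toL_pow, hx, hTr₁, toL_one])
  have hyr : y ^ r = 1 := toL_inj (by rw [toL_pow, hy, hTr₂, toL_one])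
  have htp : t ^ p = 1 := toL_inj (by rw [toL_pow, ht, hsp, toL_one])
  have hx1 : x ≠ 1 := fun h => hT1₁ (by rw [← hx, h, toL_one])
  have hy1 : y ≠ 1 := fun h => hT1₂ (by rw [← hy, h, toL_one])
  have ht1 : t ≠ 1 := fun h => hs1 (by rw [← ht, h, toL_one])
  have hty : t * y = y * t := toL_inj (by rw [toL_mul, toL_mul, ht, hy, hsT])
  set π := QuotientGroup.mk' (Subgroup.center (Omega F (⇑Q))) with hπ
  have hox : orderOf (π x) = r := H884.El.orderOf_mk hD hr.prime hr2 hxr hx1
  have hoy : orderOf (π y) = r := H884.El.orderOf_mk hD hr.prime hr2 hyr hy1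
  -- `x` is sharp
  have hshx : ∀ g : Omega F (⇑Q), g * x = x * g → g ^ p = 1 → g = 1 := fun g hg hgp => toL_inj (by
    rw [toL_one]
    refine eq_one_of_comm (Q := Q) (r := r) (by omega) hT₁ hTr₁ hfix hsh (toL_mem g) ?_ (p := p) ?_
    · rw [← hx, ← toL_mul, ← toL_mul, hg]
    · rw [← toL_pow, hgp, toL_one])
  have hnot : ∀ a : POmega F (⇑Q), orderOf a = p → a * π x ≠ π x * a := fun a ha h =>
    not_comm hD hr.prime hr2 hxr hp.out hshx ha h
  -- the element of order `p`
  have hot : orderOf (π t) = p := by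
    apply orderOf_eq_prime
    · rw [← map_pow, htp, map_one]
    · intro h
      have h1 : t ∈ Subgroup.center (Omega F (⇑Q)) := (QuotientGroup.eq_one_iff t).1 h
      exact ht1 (hshx t (Subgroup.mem_center_iff.1 h1 x).symm htp)
  by_contra hcon
  have hm : ∀ {a : POmega F (⇑Q)}, orderOf a = r → ∃ α : POmega F (⇑Q) ≃* POmega F (⇑Q), α a ∈ R := by
    intro a ha
    by_contra h
    push Not at h
    exact hcon ⟨a, by rw [ha]; exact hr.prime, h⟩
  obtain ⟨α, hα⟩ := hm hox
  obtain ⟨β, hβ⟩ := hm hoy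
  obtain ⟨c, j, hc⟩ := hR.exists_conj (a := ⟨α (π x), hα⟩) (b := ⟨β (π y), hβ⟩)
    (by rw [Subgroup.orderOf_mk]; exact (orderOf_injective α.toMonoidHom α.injective _).trans hox)
    (by rw [Subgroup.orderOf_mk]; exact (orderOf_injective β.toMonoidHom β.injective _).trans hoy)
  have hc' : β (π y) = (c : POmega F (⇑Q)) * (α (π x)) ^ j * (c : POmega F (⇑Q))⁻¹ := congrArg Subtype.val hc
  -- `π x` is a power of its power
  have hoj : orderOf (π x ^ j) = r := by
    have h1 : orderOf (β (π y)) = r := (orderOf_injective β.toMonoidHom β.injective _).trans hoy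
    rw [hc', ← map_zpow] at h1
    have h2 : orderOf ((c : POmega F (⇑Q)) * α (π x ^ j) * (c : POmega F (⇑Q))⁻¹) = orderOf (α (π x ^ j)) :=
      orderOf_injective (MulAut.conj (c : POmega F (⇑Q))).toMonoidHom (MulAut.conj _).injective _
    rw [h2] at h1
    exact ((orderOf_injective α.toMonoidHom α.injective _).symm.trans h1)
  have hpw : π x ∈ Subgroup.zpowers (π x ^ j) := by
    have h9 : Subgroup.zpowers (π x ^ j) = Subgroup.zpowers (π x) :=
      Subgroup.eq_of_le_of_card_ge (by rw [Subgroup.zpowers_le]; exact ⟨j, rfl⟩)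
        (by rw [Nat.card_zpowers, Nat.card_zpowers, hoj, hox])
    rw [h9]
    exact Subgroup.mem_zpowers _
  obtain ⟨i, hi⟩ := hpw
  -- the element of order `p` commuting with `π x`
  set a := α.symm ((c : POmega F (⇑Q))⁻¹ * β (π t) * (c : POmega F (⇑Q))) with ha
  have hoa : orderOf a = p := by
    have h1 : orderOf a = orderOf ((c : POmega F (⇑Q))⁻¹ * β (π t) * (c : POmega F (⇑Q))) :=
      orderOf_injective α.symm.toMonoidHom α.symm.injective _
    have h2 : orderOf ((c : POmega F (⇑Q))⁻¹ * β (π t) * (c : POmega F (⇑Q))) = orderOf (β (π t)) := by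
      have h3 := orderOf_injective (MulAut.conj (c : POmega F (⇑Q))⁻¹).toMonoidHom (MulAut.conj _).injective (β (π t))
      rw [MulEquiv.coe_toMonoidHom, MulAut.conj_apply, inv_inv] at h3
      exact h3
    rw [h1, h2]
    exact (orderOf_injective β.toMonoidHom β.injective _).trans hot
  have hcomm : Commute a (π x ^ j) := by
    have h1 : Commute (β (π t)) (β (π y)) := by
      have h2 : π t * π y = π y * π t := by rw [← map_mul, ← map_mul, hty]
      calc β (π t) * β (π y) = β (π t * π y) := (map_mul β _ _).symm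
        _ = β (π y * π t) := by rw [h2]
        _ = β (π y) * β (π t) := map_mul β _ _
    have h3 : α.symm ((c : POmega F (⇑Q))⁻¹ * β (π y) * (c : POmega F (⇑Q))) = π x ^ j := by
      rw [hc', MulEquiv.symm_apply_eq, map_zpow]
      group
    rw [← h3, ha]
    change _ * _ = _ * _
    rw [← map_mul, ← map_mul]
    congr 1
    have h4 : β (π t) * β (π y) = β (π y) * β (π t) := h1
    calc (c : POmega F (⇑Q))⁻¹ * β (π t) * c * ((c : POmega F (⇑Q))⁻¹ * β (π y) * c)
        = (c : POmega F (⇑Q))⁻¹ * (β (π t) * β (π y)) * c := by group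
      _ = (c : POmega F (⇑Q))⁻¹ * (β (π y) * β (π t)) * c := by rw [h4]
      _ = _ := by group
  apply hnot a hoa
  have h1 : Commute a ((π x ^ j) ^ i) := hcomm.zpow_right i
  rw [show (π x ^ j) ^ i = π x from hi] at h1
  exact h1

end orth

/-- **`PΩ₈⁺(q)`, `r ∣ q² + 1`, `r > 5`: a subgroup with cyclic Sylow `r`-subgroups misses a class of elements of
order `r`** (up to automorphisms). -/
theorem der_plus_four_of_cyc {F : Type} [Field F] [Fintype F] {r : ℕ} (hr : H436.Prim (Nat.card F) 4 r) (h5 : 5 < r)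
    (R : Subgroup (POmega F (quadFormPlus 4 F))) (hR : Cyc r R) : H396.Der (POmega F (quadFormPlus 4 F)) R := by
  have key : ∀ R : Subgroup (POmega F (⇑(LieClassical.OmegaReindex.quadPlus 4 F))), Cyc r R →
      H396.Der (POmega F (⇑(LieClassical.OmegaReindex.quadPlus 4 F))) R := fun R hR =>
    der_of_cyc (H884.El.data_plus le_rfl) (nondeg_of_nondegenerate LieClassical.OmegaReindex.quadPlus_nondegenerate)
      (H884.El.isPlus_quadPlus 4) (H884.El.card_plus 4) hr h5 R hR
  rw [LieClassical.OmegaReindex.coe_quadPlus] at key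
  exact key R hR

end Cfsg.Agent.H503.El.CycPlus
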