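import Cfsg.Agent.H503.El.O8

/-!
# TEAM ELUSIVE: `Ω⁺₈(2)`, the main theorem (helper503)
-/

set_option autoImplicit false

namespace Cfsg.Agent.H503.El.O8

open Subgroup Cfsg.Agent.H970.StabNum Cfsg.Agent.H278.El Cfsg.Agent.H396 Cfsg.Agent

set_option maxRecDepth 100000 in
/-- **`Ω⁺₈(2)`: every proper subgroup misses a `T`-class of elements of prime order.** -/
theorem derTAll_t8 (OT : OrdDiv.OrderTable.{0})
    (hS : ∀ (X : Type) [Group X] [Finite X] [IsSimpleGroup X], Cfsg.IsKnownSimple' X)
    (R : Subgroup T8) (hR : R ≠ ⊤) : DerT T8 R := by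
  classical
  haveI h7p : Fact (Nat.Prime 7) := ⟨by norm_num⟩
  have hent : ∀ P : Subgroup T8, Nat.card P = 7 → Nat.card (centralizer (P : Set T8)) ∣ 7 * 1 ∧
      Nat.card (normalizer (P : Set T8)) ∣ 7 * 6 :=
    entry_of_ex (by norm_num) card_t8 (by norm_num) (by norm_num) (by decide +kernel)
      (H732.SelfCent.omega8plus_selfcent (F := ZMod 2) (ZMod.card 2))
  have hD : Data T8 [(7, 1, 6)] [2, 3, 5, 7]
      [60, 168, 360, 504, 2520, 6048, 20160, 25920, 181440, 604800, 1451520, 1814400, 174182400] := by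
    refine mk_data OT hS (l := [(2, 12), (3, 5), (5, 2), (7, 1)]) card_t8 (by decide +kernel) ?_
    intro x hx
    rw [List.mem_singleton] at hx
    subst hx
    exact hent
  by_contra hder
  rcases mem_sub (l := [(2, 12), (3, 5), (5, 2), (7, 1)]) card_t8 (by decide +kernel)
    (by decide +kernel) hD R hR with h | h
  · exact hder (Der.derT h)
  have h1 : (sub 174182400 [(2, 12), (3, 5), (5, 2), (7, 1)] [(7, 1, 6)] [2, 3, 5, 7]
      [60, 168, 360, 504, 2520, 6048, 20160, 25920, 181440, 604800, 1451520, 1814400, 174182400]).all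
        (fun h => h % 25 != 0 || (h == 604800 || h == 4838400)) = true := by decide +kernel
  rw [List.all_eq_true] at h1
  have h2 := h1 _ h
  rw [Bool.or_eq_true, Bool.or_eq_true, beq_iff_eq, beq_iff_eq] at h2
  rcases h2 with h2 | h2
  · refine hder (Fix.derT_of_two (p := 5) (by norm_num) R ?_ (y1 := e8 y1) (y2 := e8 y2)
      (by rw [MulEquiv.orderOf_eq, order_y1]) (by rw [MulEquiv.orderOf_eq, order_y2]) not_conj)
    intro h3
    rw [show (5 : ℕ) ^ 2 = 25 by norm_num] at h3
    rw [Nat.mod_eq_zero_of_dvd h3] at h2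
    exact absurd h2 (by decide)
  -- the structure
  have hR7 : 7 ∣ Nat.card R := by rcases h2 with h2 | h2 <;> rw [h2] <;> norm_num
  have hR49 : ¬ 7 ^ 2 ∣ Nat.card R := by rcases h2 with h2 | h2 <;> rw [h2] <;> norm_num
  have hR125 : ¬ 5 ^ 3 ∣ Nat.card R := by rcases h2 with h2 | h2 <;> rw [h2] <;> norm_num
  have hR25 : 25 ∣ Nat.card R := by rcases h2 with h2 | h2 <;> rw [h2] <;> norm_num
  obtain ⟨x, hx⟩ := exists_prime_orderOf_dvd_card' 7 hR7
  have hP : Nat.card (zpowers x) = 7 := by rw [Nat.card_zpowers, hx]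
  have hPm : Nat.card ((zpowers x).map R.subtype) = 7 := by
    rw [← hP]
    exact (Nat.card_congr ((zpowers x).equivMapOfInjective _ R.subtype_injective).toEquiv).symm
  obtain ⟨L, hLn, A, hAn, hs, hA7, hPL, hcard, h7, D, m, hN, hDC, hDA, hpow⟩ := Struct.exists_struct' hP hR49
  have hC7 : Nat.card (centralizer ((zpowers x : Subgroup R) : Set R)) ∣ 7 :=
    (Fix.card_cent_map R.subtype_injective _).trans (by simpa using (hent _ hPm).1)
  have hN42 : Nat.card (normalizer ((zpowers x : Subgroup R) : Set R)) ∣ 42 :=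
    (Fix.card_norm_map R.subtype_injective _).trans (hent _ hPm).2
  have hD1 : D = 1 := by
    rcases (Nat.dvd_prime h7p.out).1 (hDC.trans hC7) with h3 | h3
    · exact h3
    · exact absurd (h3 ▸ hDA) hA7
  subst hD1
  have hc6 : L.index ∣ 6 := by
    rw [hN] at hN42
    have h3 : L.index * m * 7 ∣ 6 * 7 := by
      have h4 : L.index * (1 * (7 * m)) = L.index * m * 7 := by ring
      rw [h4] at hN42
      exact hN42
    exact (Dvd.intro _ rfl).trans (Nat.dvd_of_mul_dvd_mul_right (by norm_num) h3)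
  have hpow' : ∀ r : ℕ, r.Prime → r ^ ((Nat.card A).factorization r) ≡ 1 [MOD 7] := by
    intro r hr
    obtain ⟨j, hj, hj'⟩ := hpow r hr
    rwa [Nat.dvd_one.1 hj] at hj'
  set a := Nat.card A with ha
  set s := Nat.card (L ⧸ A) with hsd
  set c := L.index with hc
  have ha0 : a ≠ 0 := (Nat.card_pos (α := A)).ne'
  have hadvd : a ∣ Nat.card R := ⟨s * c, by rw [hcard]; ring⟩
  have hsdvd : s ∣ Nat.card R := ⟨a * c, by rw [hcard]; ring⟩
  have h5a : ¬ 5 ∣ a := by
    intro h3
    have h4 := hpow' 5 (by norm_num)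
    have h5 : 1 ≤ a.factorization 5 := ((by norm_num : Nat.Prime 5).dvd_iff_one_le_factorization ha0).1 h3
    have h6 : ¬ 3 ≤ a.factorization 5 := fun h6 => hR125
      ((((by norm_num : Nat.Prime 5).pow_dvd_iff_le_factorization ha0).2 h6).trans hadvd)
    have h7 : a.factorization 5 = 1 ∨ a.factorization 5 = 2 := by omega
    rcases h7 with h7 | h7 <;> rw [h7] at h4 <;> exact absurd h4 (by decide)
  have h5c : ¬ 5 ∣ c := fun h3 => by
    have := h3.trans hc6
    omega
  have h25s : 25 ∣ s := by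
    rw [hcard] at hR25
    have h3 : Nat.Coprime 25 a := by
      rw [show (25 : ℕ) = 5 ^ 2 by norm_num]
      exact Nat.Coprime.pow_left _ ((Nat.Prime.coprime_iff_not_dvd (by norm_num)).2 h5a)
    have h4 : Nat.Coprime 25 c := by
      rw [show (25 : ℕ) = 5 ^ 2 by norm_num]
      exact Nat.Coprime.pow_left _ ((Nat.Prime.coprime_iff_not_dvd (by norm_num)).2 h5c)
    exact h3.dvd_of_dvd_mul_left (h4.dvd_of_dvd_mul_right hR25)
  have hna : ¬ ∀ u v : L ⧸ A, u * v = v * u := by
    intro hab
    letI : CommGroup (L ⧸ A) := { (inferInstance : Group (L ⧸ A)) with mul_comm := hab }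
    have h3 : s.Prime := IsSimpleGroup.prime_card (α := L ⧸ A)
    have h4 : 7 = s := (Nat.prime_dvd_prime_iff_eq h7p.out h3).1 h7
    omega
  have hsT : s ∣ Nat.card T8 := hsdvd.trans (Subgroup.card_subgroup_dvd_card R)
  have hstbl := hD.tbl (L ⧸ A) hs hna hsT
  have hs4 : s ∣ 4838400 := hsdvd.trans (by rcases h2 with h2 | h2 <;> rw [h2] <;> norm_num)
  have hs6 : s = 604800 := by
    have h3 : ∀ s ∈ [60, 168, 360, 504, 2520, 6048, 20160, 25920, 181440, 604800, 1451520, 1814400, 174182400],
        25 ∣ s → s ∣ 4838400 → s = 604800 := by decide +kernel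
    exact h3 _ hstbl h25s hs4
  -- the two cases
  have hac : a * c = 1 ∨ a * c = 8 := by
    rcases h2 with h2 | h2
    · left
      rw [hcard, hs6] at h2
      nlinarith
    · right
      rw [hcard, hs6] at h2
      nlinarith
  rcases hac with hac | hac
  · -- `R ≅ J₂`
    have ha1 : a = 1 := Nat.eq_one_of_mul_eq_one_right hac
    have hc1 : c = 1 := Nat.eq_one_of_mul_eq_one_left hac
    have hAb : A = ⊥ := Subgroup.eq_bot_of_card_eq _ ha1
    have hLt : L = ⊤ := Subgroup.index_eq_one.1 hc1
    obtain ⟨g, hg, hreal⟩ := OrdDiv.exists_real_filter OT (S := L ⧸ A) (hS _) hna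
      (l := [(2, 12), (3, 5), (5, 2), (7, 1)]) (N := 174182400) (by decide +kernel) (by rw [← card_t8]; exact hsT)
      (fun o => o == 604800) (by rw [← hsd, hs6]; rfl)
    have hj : ((OrdDiv.cands [(2, 12), (3, 5), (5, 2), (7, 1)] 174182400).filter
        fun g => OrdDiv.ordN g == 604800).all (fun g => match g with
          | .j2 => true
          | _ => false) = true := by decide +kernel
    rw [List.all_eq_true] at hj
    have hj' := hj g hg
    have hJ : Spor.IsoJ2 (L ⧸ A) := by
      cases g <;> first | exact hreal | exact absurd hj' Bool.false_ne_true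
    obtain ⟨eJ⟩ := hJ
    subst hAb
    exact not_j2 hder ⟨(((QuotientGroup.quotientBot).trans
      ((MulEquiv.subgroupCongr hLt).trans Subgroup.topEquiv)).symm).trans eJ⟩
  · -- the order `8`
    have hc8 : c ∣ 8 := ⟨a, by rw [← hac, mul_comm]⟩
    have hc2 : c ∣ 2 := by
      have := Nat.dvd_gcd hc6 hc8
      exact this
    have ha8 : a = 8 := by
      rcases (Nat.dvd_prime Nat.prime_two).1 hc2 with h3 | h3
      · rw [h3, mul_one] at hac; exact hac
      · exfalso
        rw [h3] at hac
        have h4 : a = 2 ^ 2 := by omega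
        have h5 := hpow' 2 Nat.prime_two
        rw [h4, Nat.prime_two.factorization_pow, Finsupp.single_eq_same] at h5
        exact absurd h5 (by decide)
    refine Struct.no_ext A ha8 hs h7 (by rw [← hsd, hs6]; norm_num) ?_
    intro u v hu huv
    have hu' : orderOf ((u : R) : T8) = 7 := by rw [Subgroup.orderOf_coe, Subgroup.orderOf_coe, hu]
    have h3 := (hent (zpowers ((u : R) : T8)) (by rw [Nat.card_zpowers, hu'])).1
    have h4 : ((v : R) : T8) ∈ centralizer ((zpowers ((u : R) : T8) : Subgroup T8) : Set T8) := by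
      rw [zpowers_eq_closure, centralizer_closure, mem_centralizer_singleton_iff]
      exact congrArg (fun z : L => ((z : R) : T8)) huv
    have h5 := Subgroup.orderOf_dvd_natCard _ h4
    have h6 := h5.trans h3
    rw [Subgroup.orderOf_coe, Subgroup.orderOf_coe] at h6
    simpa using h6

end Cfsg.Agent.H503.El.O8
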