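import Cfsg.Agent.H503.El.Base

/-!
# TEAM ELUSIVE: small tools (helper503)
-/

set_option autoImplicit false

namespace Cfsg.Agent.H503.El

open Subgroup Cfsg.Agent.H970.StabNum Cfsg.Agent.H278.El Cfsg.Agent.H396 Cfsg.Agent

universe u

/-- a simple group embeds in the symmetric group on the cosets of a proper subgroup -/
theorem card_dvd_factorial {T : Type u} [Group T] [Finite T] [IsSimpleGroup T] (R : Subgroup T) (hR : R ≠ ⊤) :
    Nat.card T ∣ (R.index).factorial := by
  rcases IsSimpleGroup.eq_bot_or_eq_top_of_normal R.normalCore inferInstance with h | h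
  · rw [Subgroup.normalCore_eq_ker, MonoidHom.ker_eq_bot_iff] at h
    have h1 := Subgroup.card_dvd_of_injective _ h
    rwa [Nat.card_perm] at h1
  · exact absurd (top_le_iff.1 (h ▸ R.normalCore_le)) hR

/-- centralizers of conjugate subgroups -/
theorem card_centralizer_smul {T : Type u} [Group T] (g : T) (P : Subgroup T) :
    Nat.card (centralizer ((P.map (MulAut.conj g).toMonoidHom : Subgroup T) : Set T)) =
      Nat.card (centralizer (P : Set T)) := by
  have h : centralizer ((P.map (MulAut.conj g).toMonoidHom : Subgroup T) : Set T) =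
      (centralizer (P : Set T)).map (MulAut.conj g).toMonoidHom := by
    ext x
    constructor
    · intro hx
      refine ⟨g⁻¹ * x * g, ?_, by show g * (g⁻¹ * x * g) * g⁻¹ = x; group⟩
      show g⁻¹ * x * g ∈ centralizer (P : Set T)
      rw [mem_centralizer_iff]
      intro y hy
      have h3 := mem_centralizer_iff.1 hx (g * y * g⁻¹) ⟨y, hy, rfl⟩
      calc y * (g⁻¹ * x * g) = g⁻¹ * (g * y * g⁻¹ * x) * g := by group
        _ = g⁻¹ * x * g * y := by rw [h3]; group
    · rintro ⟨y, hy, rfl⟩
      rw [mem_centralizer_iff]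
      rintro _ ⟨z, hz, rfl⟩
      have h2 : z * y = y * z := mem_centralizer_iff.1 hy z hz
      show g * z * g⁻¹ * (g * y * g⁻¹) = g * y * g⁻¹ * (g * z * g⁻¹)
      calc g * z * g⁻¹ * (g * y * g⁻¹) = g * (z * y) * g⁻¹ := by group
        _ = g * y * g⁻¹ * (g * z * g⁻¹) := by rw [h2]; group
  rw [h]
  exact (Nat.card_congr ((centralizer (P : Set T)).equivMapOfInjective _ (MulAut.conj g).injective).toEquiv).symm

/-- one centralizer bound gives all -/
theorem cent_dvd_of_one {T : Type u} [Group T] [Finite T] {p n : ℕ} (hp : p.Prime) (hp2 : ¬ p ^ 2 ∣ Nat.card T) {y : T}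
    (hy : orderOf y = p) (hn : Nat.card (centralizer ({y} : Set T)) ∣ n) (P : Subgroup T) (hP : Nat.card P = p) :
    Nat.card (centralizer (P : Set T)) ∣ n := by
  have := Fact.mk hp
  have h1 : Nat.card (zpowers y) = p := by rw [Nat.card_zpowers, hy]
  obtain ⟨Q, hQ⟩ := exists_sylow_of_card hp2 h1
  obtain ⟨S, hS⟩ := exists_sylow_of_card hp2 hP
  obtain ⟨g, hg⟩ := MulAction.exists_smul_eq T Q S
  have h2 : P = (zpowers y).map (MulAut.conj g).toMonoidHom := by
    rw [← hS, ← hg, ← hQ]; rfl
  rw [h2, card_centralizer_smul, zpowers_eq_closure, centralizer_closure]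
  exact hn

/-- centralizers and isomorphisms -/
theorem card_centralizer_equiv {T S : Type*} [Group T] [Group S] (e : T ≃* S) (y : T) :
    Nat.card (centralizer ({e y} : Set S)) = Nat.card (centralizer ({y} : Set T)) := by
  have h : centralizer ({e y} : Set S) = (centralizer ({y} : Set T)).map e.toMonoidHom := by
    ext x
    rw [mem_centralizer_singleton_iff]
    constructor
    · intro hx
      refine ⟨e.symm x, ?_, e.apply_symm_apply x⟩
      show e.symm x ∈ centralizer ({y} : Set T)
      rw [mem_centralizer_singleton_iff]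
      apply e.injective
      rw [map_mul, map_mul, e.apply_symm_apply, hx]
    · rintro ⟨z, hz, rfl⟩
      have hz' : z * y = y * z := mem_centralizer_singleton_iff.1 hz
      show e z * e y = e y * e z
      rw [← map_mul, hz', map_mul]
  rw [h]
  exact (Nat.card_congr ((centralizer ({y} : Set T)).equivMapOfInjective _ e.injective).toEquiv).symm

end Cfsg.Agent.H503.El
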