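import Cfsg.Agent.H503.El.Fix
import Cfsg.Agent.H503.El.Tools

/-!
# TEAM ELUSIVE: `Sp₈(2)`, two classes of elements of order `5` (helper503)
-/

set_option autoImplicit false

namespace Cfsg.Agent.H503.El.Fix

open Subgroup Cfsg.Agent.H970.StabNum Cfsg.Agent.H278.El Cfsg.Agent.H396

/-- two classes of subgroups of order `p` force `p ^ 2` to divide the order -/
theorem der_of_two {T : Type*} [Group T] [Finite T] {p : ℕ} (hp : p.Prime) (R : Subgroup T)
    (hR : ¬ p ^ 2 ∣ Nat.card R) {y1 y2 : T} (h1 : orderOf y1 = p) (h2 : orderOf y2 = p)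
    (hno : ∀ θ : T ≃* T, y2 ∉ zpowers (θ y1)) : Der T R := by
  classical
  have := Fact.mk hp
  by_contra hder
  have key : ∀ y : T, orderOf y = p → ∃ φ : T ≃* T, φ y ∈ R := by
    intro y hy
    by_contra hcon
    push Not at hcon
    exact hder ⟨y, by rw [hy]; exact hp, hcon⟩
  obtain ⟨φ1, hφ1⟩ := key y1 h1
  obtain ⟨φ2, hφ2⟩ := key y2 h2
  have ho1 : orderOf (⟨φ1 y1, hφ1⟩ : R) = p := by
    rw [Subgroup.orderOf_mk, MulEquiv.orderOf_eq, h1]
  have ho2 : orderOf (⟨φ2 y2, hφ2⟩ : R) = p := by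
    rw [Subgroup.orderOf_mk, MulEquiv.orderOf_eq, h2]
  obtain ⟨P, hP⟩ := exists_sylow_of_card (T := R) hR (P := zpowers ⟨φ1 y1, hφ1⟩) (by rw [Nat.card_zpowers, ho1])
  obtain ⟨Q, hQ⟩ := exists_sylow_of_card (T := R) hR (P := zpowers ⟨φ2 y2, hφ2⟩) (by rw [Nat.card_zpowers, ho2])
  obtain ⟨g, hg⟩ := MulAction.exists_smul_eq R P Q
  have hmem : (⟨φ2 y2, hφ2⟩ : R) ∈ (Q : Subgroup R) := by rw [hQ]; exact mem_zpowers _
  rw [← hg, Sylow.coe_subgroup_smul, hP] at hmem
  obtain ⟨w, hw, hwq⟩ := hmem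
  obtain ⟨k, rfl⟩ := Subgroup.mem_zpowers_iff.1 hw
  have h3 : (g : T) * (φ1 y1) ^ k * (g : T)⁻¹ = φ2 y2 := congrArg Subtype.val hwq
  refine hno ((φ1.trans (MulAut.conj (g : T))).trans φ2.symm) ?_
  rw [Subgroup.mem_zpowers_iff]
  refine ⟨k, ?_⟩
  show (φ2.symm ((g : T) * φ1 y1 * (g : T)⁻¹)) ^ k = y2
  rw [← map_zpow, conj_zpow, h3, φ2.symm_apply_apply]

/-- an element of order `4` does not commute with a fixed point free element of order `5` on a group of order `2 ^ 8` -/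
theorem no_four {S V : Type*} [Group S] [CommGroup V] [Finite V] [MulDistribMulAction S V]
    (hV : Nat.card V = 256) (hv2 : ∀ v : V, v * v = 1) {y z : S} (hy : orderOf y = 5)
    (hyf : ∀ v : V, y • v = v → v = 1) (hz4 : ∀ v : V, z • z • z • z • v = v) (hz2 : ¬ ∀ v : V, z • z • v = v)
    (hc : z * y = y * z) : False := by
  classical
  have hW : ∀ W : Subgroup V, (∀ v ∈ W, y • v ∈ W) → Nat.card W = 1 ∨ Nat.card W = 16 ∨ Nat.card W = 256 := by
    intro W hW
    have h1 := card_mod (p := 5) (by norm_num) hy (W : Set V) hW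
    have h2 : Nat.card {v : V // v ∈ (W : Set V) ∧ y • v = v} = 1 := by
      rw [Nat.card_eq_one_iff_unique]
      refine ⟨⟨?_⟩, ⟨⟨1, W.one_mem, smul_one y⟩⟩⟩
      rintro ⟨v, hv, hv'⟩ ⟨w, hw, hw'⟩
      apply Subtype.ext
      show v = w
      rw [hyf v hv', hyf w hw']
    rw [h2] at h1
    have h3 : Nat.card (W : Set V) = Nat.card W := rfl
    rw [h3] at h1
    obtain ⟨j, hj, hWj⟩ := (Nat.dvd_prime_pow Nat.prime_two (m := 8)).1
      (show Nat.card W ∣ 2 ^ 8 by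
        have := Subgroup.card_subgroup_dvd_card W
        rwa [hV] at this)
    rw [hWj] at h1 ⊢
    unfold Nat.ModEq at h1
    interval_cases j <;> simp_all
  let δ : V →* V :=
    { toFun := fun v => z • v * v
      map_one' := by rw [smul_one, mul_one]
      map_mul' := fun v w => by
        rw [smul_mul']
        exact mul_mul_mul_comm _ _ _ _ }
  have hδ : ∀ v, δ v = z • v * v := fun _ => rfl
  have hδ2 : ∀ v, δ (δ v) = z • z • v * v := by
    intro v
    rw [hδ (δ v), hδ v, smul_mul']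
    calc z • z • v * z • v * (z • v * v) = z • z • v * (z • v * z • v) * v := by
          simp only [mul_assoc]
      _ = z • z • v * v := by rw [hv2, mul_one]
  have hδ4 : ∀ v, δ (δ (δ (δ v))) = 1 := by
    intro v
    rw [hδ2 (δ (δ v)), hδ2 v, smul_mul', smul_mul', hz4]
    calc v * z • z • v * (z • z • v * v) = v * (z • z • v * z • z • v) * v := by simp only [mul_assoc]
      _ = 1 := by rw [hv2, mul_one, hv2]
  have hyδ : ∀ v, y • δ v = δ (y • v) := by
    intro v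
    rw [hδ, hδ, smul_mul', ← mul_smul, ← mul_smul, hc]
  have hK : ∀ v ∈ δ.ker, y • v ∈ δ.ker := by
    intro v hv
    rw [MonoidHom.mem_ker] at hv ⊢
    rw [← hyδ, hv, smul_one]
  have hI : ∀ v ∈ δ.range, y • v ∈ δ.range := by
    rintro _ ⟨v, rfl⟩
    exact ⟨y • v, (hyδ v).symm⟩
  have hz2' : ¬ ∀ v, δ (δ v) = 1 := by
    intro h
    apply hz2
    intro v
    have := h v
    rw [hδ2] at this
    rw [mul_eq_one_iff_eq_inv.1 this]
    exact inv_eq_of_mul_eq_one_left (hv2 v)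
  have hmul : Nat.card δ.ker * Nat.card δ.range = 256 := by
    have h1 := δ.ker.card_mul_index
    rwa [Subgroup.index_ker, hV] at h1
  have hKI : ∀ v ∈ δ.ker ⊓ δ.range, y • v ∈ δ.ker ⊓ δ.range := fun v hv => ⟨hK v hv.1, hI v hv.2⟩
  rcases hW _ hKI with h | h | h
  · have h1 : δ.ker ⊓ δ.range = ⊥ := Subgroup.eq_bot_of_card_eq _ h
    apply hz2'
    intro v
    have h2 : δ (δ (δ v)) = 1 := by
      have h3 : δ (δ (δ v)) ∈ δ.ker ⊓ δ.range := ⟨hδ4 v, ⟨_, rfl⟩⟩
      rw [h1] at h3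
      exact Subgroup.mem_bot.1 h3
    have h3 : δ (δ v) ∈ δ.ker ⊓ δ.range := ⟨h2, ⟨_, rfl⟩⟩
    rw [h1] at h3
    exact Subgroup.mem_bot.1 h3
  · have hk : 16 ∣ Nat.card δ.ker := h ▸ Subgroup.card_dvd_of_le inf_le_left
    have hi : 16 ∣ Nat.card δ.range := h ▸ Subgroup.card_dvd_of_le inf_le_right
    obtain ⟨k, hk⟩ := hk
    obtain ⟨i, hi⟩ := hi
    rw [hk, hi] at hmul
    have hki : k * i = 1 := by nlinarith
    have hi1 : i = 1 := Nat.eq_one_of_mul_eq_one_left hki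
    rw [hi1, mul_one] at hi
    have h4 : δ.ker ⊓ δ.range = δ.range :=
      Subgroup.eq_of_le_of_card_ge inf_le_right (by rw [h, hi])
    apply hz2'
    intro v
    have h5 : δ v ∈ δ.ker ⊓ δ.range := by rw [h4]; exact ⟨v, rfl⟩
    exact h5.1
  · have h1 : δ.ker ⊓ δ.range = ⊤ := Subgroup.eq_top_of_card_eq _ (by rw [h, hV])
    apply hz2'
    intro v
    have h5 : δ v ∈ δ.ker ⊓ δ.range := by rw [h1]; trivial
    exact h5.1

end Cfsg.Agent.H503.El.Fix
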