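import Cfsg.Agent.H503.El.Fix
import Cfsg.Agent.H503.El.Tools

/-!
# TEAM ELUSIVE: tools for `Ω⁺₈(2)` (helper503)
-/

set_option autoImplicit false

namespace Cfsg.Agent.H503.El.Fix

open Subgroup Cfsg.Agent.H970.StabNum Cfsg.Agent.H278.El Cfsg.Agent.H396

/-- two `T`-classes of subgroups of order `p` force `p ^ 2` to divide the order -/
theorem derT_of_two {T : Type*} [Group T] [Finite T] {p : ℕ} (hp : p.Prime) (R : Subgroup T)
    (hR : ¬ p ^ 2 ∣ Nat.card R) {y1 y2 : T} (h1 : orderOf y1 = p) (h2 : orderOf y2 = p)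
    (hno : ∀ g : T, y2 ∉ zpowers (g * y1 * g⁻¹)) : DerT T R := by
  classical
  have := Fact.mk hp
  by_contra hder
  obtain ⟨g1, hφ1⟩ := exists_conj_of_not_derT hder y1 (by rw [h1]; exact hp)
  obtain ⟨g2, hφ2⟩ := exists_conj_of_not_derT hder y2 (by rw [h2]; exact hp)
  have ho1 : orderOf (⟨_, hφ1⟩ : R) = p := by
    rw [Subgroup.orderOf_mk, ← MulAut.conj_apply, MulEquiv.orderOf_eq, h1]
  have ho2 : orderOf (⟨_, hφ2⟩ : R) = p := by
    rw [Subgroup.orderOf_mk, ← MulAut.conj_apply, MulEquiv.orderOf_eq, h2]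
  obtain ⟨P, hP⟩ := exists_sylow_of_card (T := R) hR (P := zpowers ⟨_, hφ1⟩) (by rw [Nat.card_zpowers, ho1])
  obtain ⟨Q, hQ⟩ := exists_sylow_of_card (T := R) hR (P := zpowers ⟨_, hφ2⟩) (by rw [Nat.card_zpowers, ho2])
  obtain ⟨g, hg⟩ := MulAction.exists_smul_eq R P Q
  have hmem : (⟨_, hφ2⟩ : R) ∈ (Q : Subgroup R) := by rw [hQ]; exact mem_zpowers _
  rw [← hg, Sylow.coe_subgroup_smul, hP] at hmem
  obtain ⟨w, hw, hwq⟩ := hmem
  obtain ⟨k, rfl⟩ := Subgroup.mem_zpowers_iff.1 hw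
  have h3 : (g : T) * (g1 * y1 * g1⁻¹) ^ k * (g : T)⁻¹ = g2 * y2 * g2⁻¹ := congrArg Subtype.val hwq
  refine hno (g2⁻¹ * g * g1) ?_
  rw [Subgroup.mem_zpowers_iff]
  refine ⟨k, ?_⟩
  rw [conj_zpow] at h3 ⊢
  calc g2⁻¹ * g * g1 * y1 ^ k * (g2⁻¹ * g * g1)⁻¹ = g2⁻¹ * (g * (g1 * y1 ^ k * g1⁻¹) * (g : T)⁻¹) * g2 := by group
    _ = y2 := by rw [h3]; group

/-- an involution moving the halves of its fixed space commutes with no element of order `5` -/
theorem no_five {S V : Type*} [Group S] [CommGroup V] [Finite V] [MulDistribMulAction S V]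
    (hV : Nat.card V = 256) (hv2 : ∀ v : V, v * v = 1) {t y : S} (ht2 : ∀ v : V, t • t • v = v) (hy : orderOf y = 5)
    (hyn : ¬ ∀ v : V, y • y • v = v) (hc : t * y = y * t) (Z : Set V) (hZ : ∀ v, y • v ∈ Z ↔ v ∈ Z)
    (h1 : Nat.card {v : V // t • v = v ∧ v ∈ Z} = 8) (h2 : Nat.card {v : V // t • v = v ∧ v ∉ Z} = 8) : False := by
  classical
  let M : Subgroup V :=
    { carrier := {v | t • v = v}
      one_mem' := smul_one _
      mul_mem' := by
        intro v w hv hw
        show t • (v * w) = v * w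
        rw [smul_mul', show t • v = v from hv, show t • w = w from hw]
      inv_mem' := by
        intro v hv
        show t • v⁻¹ = v⁻¹
        rw [smul_inv', show t • v = v from hv] }
  let C : Subgroup V :=
    { carrier := {v | y • v = v}
      one_mem' := smul_one _
      mul_mem' := by
        intro v w hv hw
        show y • (v * w) = v * w
        rw [smul_mul', show y • v = v from hv, show y • w = w from hw]
      inv_mem' := by
        intro v hv
        show y • v⁻¹ = v⁻¹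
        rw [smul_inv', show y • v = v from hv] }
  have hyM : ∀ v : V, t • v = v → t • y • v = y • v := by
    intro v hv
    rw [← mul_smul, hc, mul_smul, hv]
  set s1 : Set V := {v | t • v = v ∧ v ∈ Z} with hs1
  set s2 : Set V := {v | t • v = v ∧ v ∉ Z} with hs2
  have e1 := card_mod (p := 5) (by norm_num) hy s1 (fun v hv => ⟨hyM v hv.1, (hZ v).2 hv.2⟩)
  have e2 := card_mod (p := 5) (by norm_num) hy s2 (fun v hv => ⟨hyM v hv.1, fun h => hv.2 ((hZ v).1 h)⟩)
  have c1 : Nat.card s1 = 8 := h1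
  have c2 : Nat.card s2 = 8 := h2
  rw [c1] at e1
  rw [c2] at e2
  -- fixed points
  have hsum : ∀ (P : V → Prop), Nat.card {v : V // t • v = v ∧ P v} =
      Nat.card {v : V // v ∈ s1 ∧ P v} + Nat.card {v : V // v ∈ s2 ∧ P v} := by
    intro P
    have := Fintype.ofFinite V
    rw [Nat.card_eq_fintype_card, Nat.card_eq_fintype_card, Nat.card_eq_fintype_card, Fintype.card_subtype,
      Fintype.card_subtype, Fintype.card_subtype, ← Finset.card_union_of_disjoint]
    · congr 1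
      ext v
      simp only [Finset.mem_filter, Finset.mem_univ, true_and, Finset.mem_union, hs1, hs2, Set.mem_setOf_eq]
      tauto
    · rw [Finset.disjoint_left]
      intro v hv hv'
      simp only [Finset.mem_filter, Finset.mem_univ, true_and, hs1, hs2, Set.mem_setOf_eq] at hv hv'
      exact hv'.1.2 hv.1.2
  have hMC : Nat.card (M ⊓ C : Subgroup V) = Nat.card {v : V // v ∈ s1 ∧ y • v = v} +
      Nat.card {v : V // v ∈ s2 ∧ y • v = v} := by
    rw [← hsum]
    rfl
  have hM16 : Nat.card M = 16 := by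
    have h3 := hsum (fun _ => True)
    have h4 : Nat.card M = Nat.card {v : V // t • v = v ∧ True} :=
      Nat.card_congr ⟨fun v => ⟨v.1, v.2, trivial⟩, fun v => ⟨v.1, v.2.1⟩, fun _ => rfl, fun _ => rfl⟩
    have h5 : Nat.card {v : V // v ∈ s1 ∧ True} = 8 := by
      rw [← c1]
      exact Nat.card_congr ⟨fun v => ⟨v.1, v.2.1⟩, fun v => ⟨v.1, v.2, trivial⟩, fun _ => rfl, fun _ => rfl⟩
    have h6 : Nat.card {v : V // v ∈ s2 ∧ True} = 8 := by
      rw [← c2]
      exact Nat.card_congr ⟨fun v => ⟨v.1, v.2.1⟩, fun v => ⟨v.1, v.2, trivial⟩, fun _ => rfl, fun _ => rfl⟩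
    rw [h4, h3, h5, h6]
  have hle1 : Nat.card {v : V // v ∈ s1 ∧ y • v = v} ≤ 8 := by
    rw [← c1]
    exact Nat.card_le_card_of_injective (fun v => (⟨v.1, v.2.1⟩ : s1))
      (fun a b h => Subtype.ext (congrArg (fun z : s1 => z.1) h))
  have hle2 : Nat.card {v : V // v ∈ s2 ∧ y • v = v} ≤ 8 := by
    rw [← c2]
    exact Nat.card_le_card_of_injective (fun v => (⟨v.1, v.2.1⟩ : s2))
      (fun a b h => Subtype.ext (congrArg (fun z : s2 => z.1) h))
  have hdvd : Nat.card (M ⊓ C : Subgroup V) ∣ 16 := hM16 ▸ Subgroup.card_dvd_of_le inf_le_left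
  have h16 : Nat.card (M ⊓ C : Subgroup V) = 16 := by
    unfold Nat.ModEq at e1 e2
    obtain ⟨k, hk⟩ := hdvd
    have h3 : Nat.card {v : V // v ∈ s1 ∧ y • v = v} = 3 ∨ Nat.card {v : V // v ∈ s1 ∧ y • v = v} = 8 := by omega
    have h4 : Nat.card {v : V // v ∈ s2 ∧ y • v = v} = 3 ∨ Nat.card {v : V // v ∈ s2 ∧ y • v = v} = 8 := by omega
    rcases h3 with h3 | h3 <;> rcases h4 with h4 | h4 <;> rw [h3, h4] at hMC <;> rw [hMC] at hk ⊢ <;> omega
  have hle : M ≤ C := by
    have h3 : M ⊓ C = M := Subgroup.eq_of_le_of_card_ge inf_le_left (by rw [h16, hM16])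
    rw [← h3]
    exact inf_le_right
  have hMy : ∀ v : V, t • v = v → y • v = v := fun v hv => hle hv
  have hinv : ∀ v : V, v⁻¹ = v := fun v => inv_eq_of_mul_eq_one_left (hv2 v)
  -- `δ v = t v * v`
  have hδ : ∀ v : V, t • (t • v * v) = t • v * v := by
    intro v
    rw [smul_mul', ht2, mul_comm]
  apply hyn
  intro v
  -- `m = y v * v` is fixed by `t`
  have hm : t • (y • v * v) = y • v * v := by
    have h3 := hMy _ (hδ v)
    rw [smul_mul', ← mul_smul, ← hc, mul_smul] at h3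
    -- `t y v * y v = t v * v`
    rw [smul_mul']
    have h4 : t • y • v = t • v * v * y • v := by
      rw [← h3, mul_assoc, hv2, mul_one]
    rw [h4]
    calc t • v * v * y • v * t • v = (t • v * t • v) * (v * y • v) := by
          rw [mul_assoc (t • v) v, mul_comm (t • v * (v * y • v)) (t • v), ← mul_assoc]
      _ = y • v * v := by rw [hv2, one_mul, mul_comm]
  have hm2 := hMy _ hm
  rw [smul_mul'] at hm2
  have h5 : y • y • v * y • v * (y • v) = y • v * v * (y • v) := by rw [hm2]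
  rw [mul_assoc, hv2, mul_one] at h5
  rw [h5, mul_comm (y • v) v, mul_assoc, hv2, mul_one]

end Cfsg.Agent.H503.El.Fix
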