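import Mathlib
import Cfsg.Agent.H970.StabK

/-!
# TEAM ELUSIVE: `L₆(2)`, counting fixed points (helper503)
-/

set_option autoImplicit false

namespace Cfsg.Agent.H503.El.Fix

open Subgroup Cfsg.Agent.H970.StabK

universe u

/-- fixed points of an element of prime order on an invariant set -/
theorem card_mod {S α : Type*} [Group S] [MulAction S α] [Finite α] {p : ℕ} (hp : p.Prime) {x : S}
    (hx : orderOf x = p) (s : Set α) (hs : ∀ a ∈ s, x • a ∈ s) :
    Nat.card s ≡ Nat.card {a : α // a ∈ s ∧ x • a = a} [MOD p] := by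
  have := Fact.mk hp
  have hfo : IsOfFinOrder x := orderOf_pos_iff.1 (by rw [hx]; exact hp.pos)
  have hpow : ∀ (n : ℕ), ∀ a ∈ s, x ^ n • a ∈ s := by
    intro n
    induction n with
    | zero => intro a ha; rwa [pow_zero, one_smul]
    | succ n ih => intro a ha; rw [pow_succ, mul_smul]; exact ih _ (hs a ha)
  have hQ : IsPGroup p (zpowers x) := IsPGroup.of_card (n := 1) (by rw [Nat.card_zpowers, hx, pow_one])
  let M : SubMulAction (zpowers x) α :=
    { carrier := s
      smul_mem' := by
        rintro ⟨g, hg⟩ a ha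
        obtain ⟨n, rfl⟩ := Submonoid.mem_powers_iff _ _ |>.1 (hfo.mem_powers_iff_mem_zpowers.2 hg)
        exact hpow n a ha }
  have h1 := hQ.card_modEq_card_fixedPoints M
  have h2 : Nat.card M = Nat.card s := rfl
  have h3 : Nat.card (MulAction.fixedPoints (zpowers x) M) = Nat.card {a : α // a ∈ s ∧ x • a = a} := by
    refine Nat.card_congr
      { toFun := fun a => ⟨(a.1 : α), a.1.2, congrArg Subtype.val (a.2 ⟨x, mem_zpowers x⟩)⟩
        invFun := fun a => ⟨⟨a.1, a.2.1⟩, ?_⟩
        left_inv := fun a => rfl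
        right_inv := fun a => rfl }
    rintro ⟨g, hg⟩
    apply Subtype.ext
    show g • a.1 = a.1
    have h4 : x ∈ MulAction.stabilizer S a.1 := a.2.2
    exact (zpowers_le.2 h4) hg
  rwa [h2, h3] at h1

/-- a normal `2`-subgroup in a group of order `2 ^ a * 155` -/
theorem exists_two {H : Type u} [Group H] [Finite H] {a : ℕ} (P : Subgroup H) (hP : Nat.card P = 31)
    (hC : Nat.card (centralizer (P : Set H)) ∣ 31) (hN : Nat.card (normalizer (P : Set H)) ∣ 155)
    (hcard : Nat.card H = 2 ^ a * 155)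
    (hna : ∀ (K : Type u) [Group K] [Finite K], IsSimpleGroup K → (¬ ∀ x y : K, x * y = y * x) →
      Nat.card K ∣ Nat.card H → False) :
    ∃ A : Subgroup H, Nat.card A = 2 ^ a ∧ P ≤ normalizer (A : Set H) := by
  have hp : Fact (Nat.Prime 31) := ⟨by norm_num⟩
  have hco : ¬ 31 ∣ 2 ^ a := fun h => by
    have := (Nat.Prime.dvd_of_dvd_pow hp.out h)
    omega
  have hp2 : ¬ 31 ^ 2 ∣ Nat.card H := by
    intro h
    rw [hcard, show 2 ^ a * 155 = 31 * (2 ^ a * 5) by ring, pow_two] at h
    have h1 := Nat.dvd_of_mul_dvd_mul_left (by norm_num) h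
    rcases (Nat.Prime.dvd_mul hp.out).1 h1 with h2 | h2
    · exact hco h2
    · omega
  obtain ⟨L, hL, hLn, R, hRn, hRp, hmax⟩ : ∃ L : Subgroup H, L = normalClosure (P : Set H) ∧ L.Normal ∧
      ∃ R : Subgroup L, R.Normal ∧ ¬ 31 ∣ Nat.card R ∧
      ∀ N : Subgroup L, N.Normal → R ≤ N → N = R ∨ N = ⊤ :=
    ⟨_, rfl, Subgroup.normalClosure_normal, exists_simple hP hp2⟩
  have hPL : P ≤ L := by rw [hL]; exact Subgroup.subset_normalClosure
  have hcardP : Nat.card (P.subgroupOf L) = 31 := by
    rw [Nat.card_congr (Subgroup.subgroupOfEquivOfLe hPL).toEquiv, hP]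
  have hpL : 31 ∣ Nat.card L := by rw [← hcardP]; exact Subgroup.card_subgroup_dvd_card _
  have hLRK : Nat.card L = Nat.card (L ⧸ R) * Nat.card R := Subgroup.card_eq_card_quotient_mul_card_subgroup R
  have hpK : 31 ∣ Nat.card (L ⧸ R) := by
    rw [hLRK] at hpL
    exact (hp.out.dvd_mul.1 hpL).resolve_right hRp
  have hnt : Nontrivial (L ⧸ R) := by
    by_contra hcon
    rw [not_nontrivial_iff_subsingleton] at hcon
    rw [Nat.card_of_subsingleton (1 : L ⧸ R)] at hpK
    exact hp.out.one_lt.ne' (Nat.dvd_one.1 hpK)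
  have hsimple : IsSimpleGroup (L ⧸ R) := by
    refine ⟨fun N hN => ?_⟩
    have h1 : R ≤ N.comap (QuotientGroup.mk' R) := by
      intro x hx
      rw [Subgroup.mem_comap, QuotientGroup.mk'_apply, (QuotientGroup.eq_one_iff x).2 hx]
      exact N.one_mem
    have h2 : N = (N.comap (QuotientGroup.mk' R)).map (QuotientGroup.mk' R) :=
      (Subgroup.map_comap_eq_self_of_surjective (QuotientGroup.mk'_surjective R) N).symm
    rcases hmax _ (hN.comap _) h1 with h | h
    · left
      rw [h2, h]
      rw [eq_bot_iff]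
      rintro _ ⟨x, hx, rfl⟩
      exact (QuotientGroup.eq_one_iff x).2 hx
    · right
      rw [h2, h]
      exact Subgroup.map_top_of_surjective _ (QuotientGroup.mk'_surjective R)
  have hLd : Nat.card L ∣ Nat.card H := Subgroup.card_subgroup_dvd_card L
  have hab : ∀ x y : L ⧸ R, x * y = y * x := by
    by_contra h
    exact hna (L ⧸ R) hsimple h (Dvd.dvd.trans ⟨_, hLRK⟩ hLd)
  have hmapcard : Nat.card ((P.subgroupOf L).map (QuotientGroup.mk' R)) = 31 := by
    have h1 : Nat.card ((P.subgroupOf L).map (QuotientGroup.mk' R)) ∣ 31 := by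
      have := Subgroup.card_map_dvd (P.subgroupOf L) (QuotientGroup.mk' R)
      rwa [hcardP] at this
    rcases (Nat.dvd_prime hp.out).1 h1 with h | h
    · exfalso
      have h2 : (P.subgroupOf L).map (QuotientGroup.mk' R) = ⊥ := Subgroup.eq_bot_of_card_eq _ h
      rw [Subgroup.map_eq_bot_iff, QuotientGroup.ker_mk'] at h2
      apply hRp
      rw [← hcardP]
      exact Subgroup.card_dvd_of_le h2
    · exact h
  have hN1 := card_normalizer_frattini hPL hP hp2
  have hN2 := card_normalizer (R := R) hcardP hRp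
  have h4 : (P.subgroupOf L).map (QuotientGroup.mk' R) = ⊤ := by
    have : ((P.subgroupOf L).map (QuotientGroup.mk' R)).Normal := ⟨fun n hn g => by
      rw [hab g n, mul_inv_cancel_right]; exact hn⟩
    rcases hsimple.eq_bot_or_eq_top_of_normal _ this with h | h
    · rw [h, Subgroup.card_bot] at hmapcard
      exact absurd hmapcard (by norm_num)
    · exact h
  have h3 : normalizer (((P.subgroupOf L).map (QuotientGroup.mk' R) : Subgroup (L ⧸ R)) : Set (L ⧸ R)) = ⊤ := by
    rw [eq_top_iff]
    intro x _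
    rw [Subgroup.mem_normalizer_iff]
    intro y
    rw [hab x y, mul_inv_cancel_right]
  have hq31 : Nat.card (L ⧸ R) = 31 := by
    rw [h4, Subgroup.card_top] at hmapcard
    exact hmapcard
  rw [h3, Subgroup.card_top, hq31] at hN2
  set D := Nat.card (R ⊓ normalizer ((P.subgroupOf L : Subgroup L) : Set L) : Subgroup L) with hD
  have hDC : D ∣ Nat.card (centralizer (P : Set H)) := by
    have h1 : (R ⊓ normalizer ((P.subgroupOf L : Subgroup L) : Set L) : Subgroup L).map L.subtype ≤
        centralizer (P : Set H) := by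
      rintro _ ⟨x, hx, rfl⟩
      rw [Subgroup.mem_centralizer_iff]
      intro y hy
      have h2 := comm_of_mem hcardP hRp hx.1 hx.2 (y := ⟨y, hPL hy⟩) hy
      exact (congrArg Subtype.val h2).symm
    have h2 := Subgroup.card_dvd_of_le h1
    rwa [Nat.card_congr (Subgroup.equivMapOfInjective _ L.subtype L.subtype_injective).toEquiv.symm] at h2
  have hD1 : D = 1 := by
    rcases (Nat.dvd_prime hp.out).1 (hDC.trans hC) with h | h
    · exact h
    · exfalso
      have h5 : D ∣ Nat.card R := Subgroup.card_dvd_of_le inf_le_left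
      rw [h] at h5
      exact hRp h5
  rw [hN1, hN2, hD1] at hN
  have hidx : L.index ∣ 5 := by
    have : L.index * 31 ∣ 5 * 31 := by simpa using hN
    exact Nat.dvd_of_mul_dvd_mul_right (by norm_num) this
  have hHc : Nat.card H = Nat.card R * 31 * L.index := by
    rw [← Subgroup.card_mul_index L, hLRK, hq31, mul_comm 31]
  rw [hcard] at hHc
  have hR5 : L.index = 5 := by
    rcases (Nat.dvd_prime (by norm_num : Nat.Prime 5)).1 hidx with h | h
    · exfalso
      rw [h, mul_one] at hHc
      have h5 : Nat.card R = 2 ^ a * 5 := by omega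
      obtain ⟨j, hj, hm⟩ := exists_pow (R := R) hcardP hRp 5 (by norm_num)
      have hj0 : j = 0 := by
        rw [← hD, hD1] at hj
        by_contra hj0
        have := Nat.le_of_dvd one_pos hj
        have h6 : 5 ^ 1 ≤ 5 ^ j := Nat.pow_le_pow_right (by norm_num) (Nat.pos_of_ne_zero hj0)
        omega
      have h6 : (Nat.card R).factorization 5 = 1 := by
        rw [h5, Nat.factorization_mul (by positivity) (by norm_num)]
        have h7 : (2 ^ a).factorization 5 = 0 := by
          apply Nat.factorization_eq_zero_of_not_dvd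
          intro h8
          have := Nat.Prime.dvd_of_dvd_pow (by norm_num) h8
          omega
        rw [Finsupp.add_apply, h7, (by norm_num : Nat.Prime 5).factorization_self]
      rw [h6, hj0] at hm
      exact absurd hm (by decide)
    · exact h
  rw [hR5] at hHc
  have hRa : Nat.card R = 2 ^ a := by omega
  refine ⟨R.map L.subtype, ?_, ?_⟩
  · rw [← hRa]
    exact (Nat.card_congr (Subgroup.equivMapOfInjective _ L.subtype L.subtype_injective).toEquiv).symm
  · intro x hx
    rw [Subgroup.mem_normalizer_iff]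
    intro y
    constructor
    · rintro ⟨z, hz, rfl⟩
      exact ⟨⟨x, hPL hx⟩ * z * (⟨x, hPL hx⟩)⁻¹, hRn.conj_mem z hz _, rfl⟩
    · rintro ⟨z, hz, hzy⟩
      refine ⟨(⟨x, hPL hx⟩)⁻¹ * z * (⟨x, hPL hx⟩), ?_, ?_⟩
      · have := hRn.conj_mem z hz (⟨x, hPL hx⟩)⁻¹
        rwa [inv_inv] at this
      · show x⁻¹ * (z : H) * x = y
        have h8 : (z : H) = x * y * x⁻¹ := hzy
        rw [h8]
        group

end Cfsg.Agent.H503.El.Fix
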