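import Mathlib
import Cfsg.Prelude.Def_Classical

/-!
# TEAM ELUSIVE: `PΩ⁺₈(3)`, explicit matrices (helper503)
-/

set_option autoImplicit false
set_option maxRecDepth 100000

namespace Cfsg.Agent.H503.El.O83

open Cfsg Matrix

/-- the field -/
abbrev R3 := ZMod 3

/-- index type -/
abbrev I8 := Fin 4 ⊕ Fin 4

/-- matrices -/
abbrev M8 := Matrix I8 I8 R3

/-- the quadratic form -/
abbrev Q8 : (I8 → R3) → R3 := quadFormPlus 4 R3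

/-- the Gram matrix -/
def J8 : M8 := Matrix.fromBlocks 0 1 1 0

def A1 : M8 := Matrix.fromBlocks !![1,0,0,0; 0,0,0,1; 0,0,1,0; 0,2,0,0] !![0,0,0,0; 0,2,0,0; 0,0,0,0; 0,0,0,2] !![0,0,0,0; 0,1,0,0; 0,0,0,0; 0,0,0,1] !![1,0,0,0; 0,0,0,2; 0,0,1,0; 0,1,0,0]
def B1 : M8 := Matrix.fromBlocks !![0,0,0,1; 0,1,0,0; 0,0,1,0; 2,0,0,0] !![2,0,0,0; 0,0,0,0; 0,0,0,0; 0,0,0,2] !![1,0,0,0; 0,0,0,0; 0,0,0,0; 0,0,0,1] !![0,0,0,2; 0,1,0,0; 0,0,1,0; 1,0,0,0]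
def A2 : M8 := Matrix.fromBlocks !![0,0,0,0; 0,1,0,0; 0,0,2,0; 0,0,0,0] !![2,0,0,0; 0,0,0,0; 0,0,0,0; 0,0,0,1] !![2,0,0,0; 0,0,0,0; 0,0,0,0; 0,0,0,1] !![0,0,0,0; 0,1,0,0; 0,0,2,0; 0,0,0,0]
def B2 : M8 := Matrix.fromBlocks !![0,2,2,0; 2,0,1,0; 1,1,0,0; 1,0,2,0] !![0,0,0,1; 0,0,0,2; 0,0,0,1; 1,2,1,0] !![2,2,1,1; 2,2,2,1; 1,2,2,1; 1,1,1,0] !![0,2,1,1; 2,0,1,0; 2,1,0,2; 0,0,0,0]

theorem A1_sq : A1 * A1 = 1 := by decide +kernel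
theorem B1_sq : B1 * B1 = 1 := by decide +kernel
theorem A2_sq : A2 * A2 = 1 := by decide +kernel
theorem B2_sq : B2 * B2 = 1 := by decide +kernel

theorem A1_j : A1.transpose * J8 * A1 = J8 := by decide +kernel
theorem B1_j : B1.transpose * J8 * B1 = J8 := by decide +kernel
theorem A2_j : A2.transpose * J8 * A2 = J8 := by decide +kernel
theorem B2_j : B2.transpose * J8 * B2 = J8 := by decide +kernel

theorem two_q (v : I8 → R3) : v ⬝ᵥ (J8 *ᵥ v) = 2 * Q8 v := by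
  show v ⬝ᵥ (J8 *ᵥ v) = 2 * quadFormPlus 4 R3 v
  unfold J8 quadFormPlus
  simp only [dotProduct, Fintype.sum_sum_type, mulVec, Matrix.fromBlocks_apply₁₁, Matrix.fromBlocks_apply₁₂,
    Matrix.fromBlocks_apply₂₁, Matrix.fromBlocks_apply₂₂, Matrix.zero_apply, Matrix.one_apply, zero_mul,
    Finset.sum_const_zero, zero_add, add_zero, ite_mul, one_mul, Finset.sum_ite_eq, Finset.mem_univ, if_true]
  rw [two_mul]
  congr 1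
  exact Finset.sum_congr rfl fun i _ => mul_comm _ _

theorem iso_of_j {A : M8} (h : A.transpose * J8 * A = J8) (v : I8 → R3) : Q8 (A *ᵥ v) = Q8 v := by
  have h1 : 2 * Q8 (A *ᵥ v) = 2 * Q8 v := by
    rw [← two_q, ← two_q]
    have h2 : (A *ᵥ v) ⬝ᵥ (J8 *ᵥ (A *ᵥ v)) = v ⬝ᵥ ((A.transpose * J8 * A) *ᵥ v) := by
      rw [← Matrix.mulVec_mulVec, ← Matrix.mulVec_mulVec, Matrix.dotProduct_mulVec v A.transpose, Matrix.vecMul_transpose]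
    rw [h2, h]
  have h3 : (2 : R3) ≠ 0 := by decide
  exact mul_left_cancel₀ h3 h1

/-- the products -/
def Y1 : M8 := A1 * B1 * A1 * B1
def Y2 : M8 := A2 * B2 * A2 * B2

theorem Y1_props : Y1 ^ 5 = 1 ∧ Y1 ≠ 1 := by decide +kernel
theorem Y1_fix : Y1.mulVec (Pi.single (Sum.inr 2) 1 : I8 → R3) = Pi.single (Sum.inr 2) 1 := by decide +kernel
theorem Y2_props : Y2 ^ 5 = 1 ∧ Y2 ≠ 1 ∧ Y2 ^ 4 + Y2 ^ 3 + Y2 ^ 2 + Y2 + 1 = 0 := by decide +kernel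

end Cfsg.Agent.H503.El.O83
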