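import Cfsg.Agent.H503.El.Struct
import Cfsg.Agent.H503.El.Fix

/-!
# TEAM ELUSIVE: extensions by simple groups with trivial action (helper503)
-/

set_option autoImplicit false

namespace Cfsg.Agent.H503.El.Struct

open Subgroup

/-- elements of order `r` act trivially on `A` by counting; then `A = 1`. -/
theorem no_ext' {L : Type*} [Group L] [Finite L] (A : Subgroup L) [A.Normal] {p r : ℕ} (hp : p.Prime) (hr : r.Prime)
    (hs : IsSimpleGroup (L ⧸ A)) (hpd : p ∣ Nat.card (L ⧸ A)) (hrd : r ∣ Nat.card (L ⧸ A))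
    (hrA : ¬ r ∣ Nat.card A) (hpA : ¬ p ∣ Nat.card A)
    (hd : ∀ d, d ∣ Nat.card A → Nat.card A ≡ d [MOD r] → d = Nat.card A) (hA1 : Nat.card A ≠ 1)
    (hC : ∀ x y : L, orderOf x = p → y * x = x * y → orderOf y ∣ p) : False := by
  classical
  haveI : Fact p.Prime := ⟨hp⟩
  haveI : Fact r.Prime := ⟨hr⟩
  set K := centralizer (A : Set L) with hK
  haveI hKn' : K.Normal := Subgroup.normal_centralizer
  have hKn : (K.map (QuotientGroup.mk' A)).Normal :=
    Subgroup.Normal.map inferInstance _ (QuotientGroup.mk'_surjective A)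
  have hLA : Nat.card L = Nat.card (L ⧸ A) * Nat.card A := Subgroup.card_eq_card_quotient_mul_card_subgroup A
  obtain ⟨y, hy⟩ := exists_prime_orderOf_dvd_card' (G := L) r (hLA ▸ hrd.mul_right _)
  -- `y` centralizes `A`
  have hyK : y ∈ K := by
    let C : Subgroup L := A ⊓ centralizer ({y} : Set L)
    have h1 := Fix.card_mod (S := ConjAct L) (α := L) hr (x := ConjAct.toConjAct y)
      (by rw [← hy]; exact orderOf_injective (ConjAct.toConjAct (G := L)).toMonoidHom (ConjAct.toConjAct).injective y)
      (A : Set L) (fun a ha => by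
        show y * a * y⁻¹ ∈ A
        exact Subgroup.Normal.conj_mem inferInstance a ha y)
    have h2 : Nat.card {a : L // a ∈ (A : Set L) ∧ ConjAct.toConjAct y • a = a} = Nat.card C := by
      refine Nat.card_congr (Equiv.subtypeEquivRight fun a => ?_)
      show (a ∈ A ∧ y * a * y⁻¹ = a) ↔ a ∈ A ⊓ centralizer ({y} : Set L)
      rw [Subgroup.mem_inf, mem_centralizer_singleton_iff]
      refine and_congr_right fun _ => ?_
      constructor
      · intro h
        calc a * y = (y * a * y⁻¹) * y := by rw [h]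
          _ = y * a := by group
      · intro h
        rw [← h]; group
    rw [h2] at h1
    have h3 : Nat.card (A : Set L) = Nat.card A := rfl
    rw [h3] at h1
    have h4 := hd _ (Subgroup.card_dvd_of_le inf_le_left) h1
    have h5 : C = A := Subgroup.eq_of_le_of_card_ge inf_le_left h4.ge
    rw [hK, mem_centralizer_iff]
    intro a ha
    have h6 : a ∈ C := by rw [h5]; exact ha
    exact mem_centralizer_singleton_iff.1 h6.2
  rcases hKn.eq_bot_or_eq_top with h | h
  · rw [Subgroup.map_eq_bot_iff, QuotientGroup.ker_mk'] at h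
    have h1 := Subgroup.orderOf_dvd_natCard A (h hyK)
    rw [hy] at h1
    exact hrA h1
  · have h1 : Nat.card (L ⧸ A) ∣ Nat.card K := by
      have := Subgroup.card_map_dvd K (QuotientGroup.mk' A)
      rwa [h, Subgroup.card_top] at this
    obtain ⟨x, hx⟩ := exists_prime_orderOf_dvd_card' (G := K) p (hpd.trans h1)
    haveI hnt : Nontrivial A := by
      rw [← Finite.one_lt_card_iff_nontrivial]
      have : 0 < Nat.card A := Nat.card_pos
      omega
    obtain ⟨a, ha⟩ := exists_ne (1 : A)
    have h2 := hC x a (by rw [Subgroup.orderOf_coe, hx]) (mem_centralizer_iff.1 x.2 a a.2)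
    rw [Subgroup.orderOf_coe] at h2
    rcases (Nat.dvd_prime hp).1 h2 with h3 | h3
    · exact ha (orderOf_eq_one_iff.1 h3)
    · exact hpA (h3 ▸ orderOf_dvd_natCard a)

end Cfsg.Agent.H503.El.Struct
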