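import Cfsg.Agent.H503.El.FiveT
import Cfsg.Agent.H503.El.O83Mat
import Cfsg.Agent.H503.El.Struct2
import Cfsg.Agent.H503.El.Fix2
import Cfsg.Agent.H503.El.PG
import Cfsg.Agent.H134.OmegaThree
import Cfsg.Agent.H899.O7.Spec
import Cfsg.Agent.UGT.U2.Rec.Congr
import Cfsg.Agent.S2371
import Cfsg.Agent.S0296
import Cfsg.Agent.LieClassical.OrthCenter
import Cfsg.Agent.LieClassical.OmegaReindex
import Cfsg.Agent.ClassicalGeometry.IsoTransfer

/-!
# TEAM ELUSIVE: `PΩ⁺₈(3)` (helper503)

* `pgap_t8` : a proper subgroup misses a prime or has the order of `Ω₇(3)`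
* `derTAll_t8` : a proper subgroup misses a `T`-class of elements of prime order
-/

set_option autoImplicit false

namespace Cfsg.Agent.H503.El.O83

open Subgroup Cfsg.Agent.H970.StabNum Cfsg.Agent.H278.El Cfsg.Agent.H396 Cfsg.Agent Cfsg.Agent.H938.Sax

/-- the linear group -/
abbrev S8 := Omega R3 Q8

/-- the simple group -/
abbrev T8 := POmega R3 Q8

/-- the matrices of the elements -/
def rho : S8 →* M8 :=
  (Units.coeHom M8).comp ((isometryGroup R3 Q8).subtype.comp (Omega R3 Q8).subtype)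

theorem rho_injective : Function.Injective rho := by
  intro a b h
  exact Subtype.ext (Subtype.ext (Units.ext h))

/-- the isometries with the given involutory matrices -/
def isoOf (A : M8) (h : A * A = 1) (hA : A.transpose * J8 * A = J8) : isometryGroup R3 Q8 :=
  ⟨⟨A, A, h, h⟩, ClassicalGeometry.IsoTransfer.mem_isometryGroup_iff.2 (iso_of_j hA)⟩

/-- a commutator of involutions -/
def comOf (A B : M8) (hA2 : A * A = 1) (hB2 : B * B = 1) (hA : A.transpose * J8 * A = J8)
    (hB : B.transpose * J8 * B = J8) : S8 :=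
  ⟨isoOf A hA2 hA * isoOf B hB2 hB * (isoOf A hA2 hA)⁻¹ * (isoOf B hB2 hB)⁻¹, by
    show _ ∈ commutator (isometryGroup R3 Q8)
    rw [commutator_def]
    exact Subgroup.commutator_mem_commutator (Subgroup.mem_top _) (Subgroup.mem_top _)⟩

theorem rho_comOf (A B : M8) (hA2 : A * A = 1) (hB2 : B * B = 1) (hA : A.transpose * J8 * A = J8)
    (hB : B.transpose * J8 * B = J8) : rho (comOf A B hA2 hB2 hA hB) = A * B * A * B := by
  rfl

attribute [irreducible] comOf

theorem card_t8 : Nat.card T8 = 4952179814400 := by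
  have hord := Cfsg.Agent.S0293.result (F := R3) (q := 3) (by rw [ZMod.card]) 4 (by norm_num)
  rw [show Nat.gcd 4 (3 ^ 4 - 1) = 4 by norm_num] at hord
  have h1 : 4 * Nat.card T8 = 3 ^ (4 * (4 - 1)) * (3 ^ 4 - 1) * ∏ i ∈ Finset.range (4 - 1), (3 ^ (2 * (i + 1)) - 1) := hord
  have h2 : 3 ^ (4 * (4 - 1)) * (3 ^ 4 - 1) * ∏ i ∈ Finset.range (4 - 1), (3 ^ (2 * (i + 1)) - 1) =
      4 * 4952179814400 := by decide
  rw [h2] at h1
  exact Nat.eq_of_mul_eq_mul_left (by norm_num) h1

/-- the centre -/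
theorem rho_center {z : S8} (hz : z ∈ center S8) : rho z = 1 ∨ rho z = -1 := by
  have hnd := LieClassical.OmegaReindex.quadPlus_nondegenerate (m := 4) (F := R3)
  have hz' : z ∈ center (Omega R3 (⇑(LieClassical.OmegaReindex.quadPlus 4 R3))) := hz
  exact (LieClassical.OrthCenter.mem_center_omega_iff hnd (by simp) ⟨Pi.single (.inl 0) 1, by
      intro h
      have := congrFun h (.inl 0)
      simp at this, by
      rw [LieClassical.OmegaReindex.coe_quadPlus]
      unfold quadFormPlus
      simp⟩ z).1 hz'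

/-- the projection -/
def pr : S8 →* T8 := QuotientGroup.mk' (center S8)

theorem pr_surjective : Function.Surjective pr := QuotientGroup.mk'_surjective _

theorem pr_eq {a b : S8} (h : pr a = pr b) : rho b = rho a ∨ rho b = -rho a := by
  have h1 : a⁻¹ * b ∈ center S8 := QuotientGroup.eq.1 h
  have h2 : rho b = rho a * rho (a⁻¹ * b) := by rw [← map_mul, mul_inv_cancel_left]
  rcases rho_center h1 with h3 | h3 <;> rw [h3] at h2
  · left; rw [h2, mul_one]
  · right; rw [h2, mul_neg, mul_one]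

instance finT8 : Finite T8 := Nat.finite_of_card_ne_zero (by rw [card_t8]; norm_num)

instance simpleT8 : IsSimpleGroup T8 := S0296.result 4 le_rfl

/-- the elements -/
def y1 : S8 := comOf A1 B1 A1_sq B1_sq A1_j B1_j
def y2 : S8 := comOf A2 B2 A2_sq B2_sq A2_j B2_j

theorem rho_y1 : rho y1 = Y1 := rho_comOf _ _ _ _ _ _
theorem rho_y2 : rho y2 = Y2 := rho_comOf _ _ _ _ _ _

attribute [irreducible] y1 y2
attribute [local irreducible] Y1 Y2

theorem neg_one_ne : (-1 : M8) ≠ 1 := by
  intro h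
  have h1 := congrFun (congrFun h (Sum.inl 0)) (Sum.inl 0)
  rw [Matrix.neg_apply, Matrix.one_apply_eq] at h1
  exact absurd h1 (by decide)

theorem neg_pow5 : (-1 : M8) ^ 5 = -1 := Odd.neg_one_pow (by decide)

theorem order_pr {y : S8} (h5 : rho y ^ 5 = 1) (h1 : rho y ≠ 1) : orderOf (pr y) = 5 := by
  haveI : Fact (Nat.Prime 5) := ⟨by norm_num⟩
  have h6 : y ^ 5 = 1 := rho_injective (by rw [map_pow, h5, map_one])
  refine orderOf_eq_prime (by rw [← map_pow, h6, map_one]) fun h => ?_
  have h2 : pr 1 = pr y := by rw [h, map_one]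
  rcases pr_eq h2 with h3 | h3
  · rw [map_one] at h3; exact h1 h3
  · rw [map_one] at h3
    rw [h3, neg_pow5] at h5
    exact neg_one_ne h5

theorem order_y1 : orderOf (pr y1) = 5 :=
  order_pr (by rw [rho_y1]; exact Y1_props.1) (by rw [rho_y1]; exact Y1_props.2)

theorem order_y2 : orderOf (pr y2) = 5 :=
  order_pr (by rw [rho_y2]; exact Y2_props.1) (by rw [rho_y2]; exact Y2_props.2.1)

theorem y2_fpf (v : I8 → R3) (h3 : Y2.mulVec v = v) : v = 0 := by
  have hp : ∀ k : ℕ, (Y2 ^ k).mulVec v = v := by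
    intro k
    induction k with
    | zero => rw [pow_zero, Matrix.one_mulVec]
    | succ k ih => rw [pow_succ, ← Matrix.mulVec_mulVec, h3, ih]
  have h4 := congrArg (fun M => M.mulVec v) Y2_props.2.2
  simp only [Matrix.add_mulVec, hp, h3, Matrix.one_mulVec, Matrix.zero_mulVec] at h4
  ext i
  have h5 := congrFun h4 i
  simp only [Pi.add_apply, Pi.zero_apply] at h5 ⊢
  have h6 : ∀ x : R3, x + x + x + x + x = 0 → x = 0 := by decide
  exact h6 _ h5

/-- the two classes of elements of order `5` -/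
theorem not_conj (g : T8) : pr y2 ∉ zpowers (g * pr y1 * g⁻¹) := by
  intro h
  obtain ⟨k, hk⟩ := Subgroup.mem_zpowers_iff.1 h
  obtain ⟨g', rfl⟩ := pr_surjective g
  rw [← map_inv, ← map_mul, ← map_mul, ← map_zpow] at hk
  have h1 : rho ((g' * y1 * g'⁻¹) ^ k) ^ 5 = 1 := by
    have h6 : y1 ^ 5 = 1 := rho_injective (by rw [map_pow, rho_y1, Y1_props.1, map_one])
    rw [← map_pow, ← zpow_natCast, ← zpow_mul, mul_comm, zpow_mul, zpow_natCast, conj_pow, h6]
    simp
  -- a fixed vector
  set v : I8 → R3 := Pi.single (Sum.inr 2) 1 with hv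
  have hfix : ∀ k : ℤ, (rho (y1 ^ k)).mulVec v = v := by
    have hnat : ∀ n : ℕ, (rho (y1 ^ n)).mulVec v = v := by
      intro n
      induction n with
      | zero => rw [pow_zero, map_one, Matrix.one_mulVec]
      | succ n ih => rw [pow_succ, map_mul, ← Matrix.mulVec_mulVec, rho_y1, Y1_fix, ih]
    intro k
    have hfo : IsOfFinOrder y1 := isOfFinOrder_iff_pow_eq_one.2 ⟨5, by norm_num,
      rho_injective (by rw [map_pow, rho_y1, Y1_props.1, map_one])⟩
    obtain ⟨n, hn⟩ := Submonoid.mem_powers_iff _ _ |>.1 (hfo.mem_powers_iff_mem_zpowers.2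
      (show y1 ^ k ∈ zpowers y1 from ⟨k, rfl⟩))
    rw [← hn]
    exact hnat n
  have hw : (rho ((g' * y1 * g'⁻¹) ^ k)).mulVec ((rho g').mulVec v) = (rho g').mulVec v := by
    rw [conj_zpow, map_mul, map_mul, Matrix.mulVec_mulVec, mul_assoc, mul_assoc, ← map_mul, inv_mul_cancel, map_one,
      mul_one, ← Matrix.mulVec_mulVec, hfix]
  have hw0 : (rho g').mulVec v ≠ 0 := by
    intro h0
    have h2 : (rho g'⁻¹).mulVec ((rho g').mulVec v) = v := by
      rw [Matrix.mulVec_mulVec, ← map_mul, inv_mul_cancel, map_one, Matrix.one_mulVec]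
    rw [h0, Matrix.mulVec_zero] at h2
    have h3 := congrFun h2 (Sum.inr 2)
    rw [hv, Pi.single_eq_same] at h3
    exact absurd h3 (by decide)
  rcases pr_eq hk with h2 | h2
  · rw [rho_y2] at h2
    rw [← h2] at hw
    exact hw0 (y2_fpf _ hw)
  · rw [rho_y2] at h2
    have h3 := Y2_props.1
    rw [h2, Odd.neg_pow (by decide), h1] at h3
    exact neg_one_ne h3

end Cfsg.Agent.H503.El.O83
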